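import Cfsg.Agent.H922.TC.LThreeTab
import Cfsg.Agent.H962.TC.Psl

/-!
# `PSL_3(q)`, `q ≠ 2`: one class of prime order (helper922, S4173, S2464, S2452)
-/

set_option autoImplicit false

namespace Cfsg.Agent.H922.TC.L3

open Matrix

/-- the only primes are 2 and 3 -/
theorem smooth {n : ℕ} (hn : n ≠ 0) (h : ∀ p : ℕ, p.Prime → p ∣ n → p ≤ 3) : ∃ a b : ℕ, n = 2 ^ a * 3 ^ b := by
  induction n using Nat.strong_induction_on with
  | _ n ih =>
    by_cases h1 : n = 1
    · exact ⟨0, 0, by rw [h1]; norm_num⟩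
    · obtain ⟨p, hp, hd⟩ := Nat.exists_prime_and_dvd h1
      obtain ⟨m, rfl⟩ := hd
      have hm : m ≠ 0 := by
        rintro rfl
        exact hn (mul_zero p)
      have hlt : m < p * m := by
        have := hp.two_le
        nlinarith [Nat.pos_of_ne_zero hm]
      obtain ⟨a, b, hab⟩ := ih m hlt hm fun r hr hrd => h r hr (hrd.mul_left p)
      have hp3 := h p hp (Dvd.intro _ rfl)
      have h2 := hp.two_le
      have hp23 : p = 2 ∨ p = 3 := by omega
      rcases hp23 with rfl | rfl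
      · exact ⟨a + 1, b, by rw [hab, pow_succ]; ring⟩
      · exact ⟨a, b + 1, by rw [hab, pow_succ]; ring⟩

theorem two_three_a {a b : ℕ} (h : 2 ^ a = 3 ^ b + 1) : a ≤ 2 := by
  by_contra hc
  obtain ⟨c, rfl⟩ : ∃ c, a = c + 3 := ⟨a - 3, by omega⟩
  have h1 : (3 ^ b + 1) % 8 = 0 := by
    rw [← h, pow_add]
    omega
  have h2 : ∀ b : ℕ, 3 ^ b % 8 = 1 ∨ 3 ^ b % 8 = 3 := by
    intro b
    induction b with
    | zero => left; rfl
    | succ b ih =>
      rw [pow_succ]
      omega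
  rcases h2 b with h3 | h3 <;> omega

theorem pow_two_diff {a b : ℕ} (h : 2 ^ a = 2 ^ b + 2) : b ≤ 1 := by
  by_contra hc
  obtain ⟨c, rfl⟩ : ∃ c, b = c + 2 := ⟨b - 2, by omega⟩
  rcases Nat.lt_or_ge a 2 with ha | ha
  · have : 2 ^ a ≤ 2 ^ 1 := Nat.pow_le_pow_right (by norm_num) (by omega)
    have h2 : 0 < 2 ^ (c + 2) := by positivity
    omega
  · obtain ⟨d, rfl⟩ : ∃ d, a = d + 2 := ⟨a - 2, by omega⟩
    rw [pow_add, pow_add] at h
    omega

theorem two_three_b {a b : ℕ} (h : 3 ^ b = 2 ^ a + 1) : b ≤ 2 := by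
  rcases Nat.lt_or_ge a 2 with ha | ha
  · have h1 : 2 ^ a ≤ 2 ^ 1 := Nat.pow_le_pow_right (by norm_num) (by omega)
    by_contra hc
    have h2 : 3 ^ 3 ≤ 3 ^ b := Nat.pow_le_pow_right (by norm_num) (by omega)
    omega
  · -- `b` is even
    obtain ⟨d, rfl⟩ : ∃ d, a = d + 2 := ⟨a - 2, by omega⟩
    have h2 : ∀ c : ℕ, 3 ^ (2 * c) % 4 = 1 := by
      intro c
      rw [pow_mul]
      induction c with
      | zero => rfl
      | succ c ih =>
        rw [pow_succ]
        omega
    rcases Nat.even_or_odd' b with ⟨c, rfl | rfl⟩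
    · have h3 : (3 ^ c - 1) * (3 ^ c + 1) = 2 ^ (d + 2) := by
        have h4 : 1 ≤ 3 ^ c := Nat.one_le_pow _ _ (by norm_num)
        zify [h4]
        have h5 : ((3 : ℤ) ^ (2 * c)) = 2 ^ (d + 2) + 1 := by exact_mod_cast h
        rw [pow_mul'] at h5
        linear_combination h5
      have h6 : (3 ^ c + 1) ∣ 2 ^ (d + 2) := Dvd.intro_left _ h3
      have h7 : (3 ^ c - 1) ∣ 2 ^ (d + 2) := Dvd.intro _ h3
      obtain ⟨s, -, hs⟩ := (Nat.dvd_prime_pow Nat.prime_two).1 h6
      have h8 := two_three_a hs.symm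
      have h9 : 3 ^ c ≤ 3 := by
        have : 2 ^ s ≤ 2 ^ 2 := Nat.pow_le_pow_right (by norm_num) h8
        omega
      by_contra hc
      have h10 : 3 ^ 2 ≤ 3 ^ c := Nat.pow_le_pow_right (by norm_num) (by omega)
      omega
    · exfalso
      have h3 := h2 c
      rw [pow_succ, pow_add] at h
      omega

/-- **numbers `q` with `q² - 1` divisible by 2 and 3 only** -/
theorem five_numbers {q : ℕ} (hq : 2 ≤ q) (h : ∀ p : ℕ, p.Prime → p ∣ q ^ 2 - 1 → p ≤ 3) :
    q = 2 ∨ q = 3 ∨ q = 5 ∨ q = 7 ∨ q = 17 := by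
  have e : q ^ 2 - 1 = (q - 1) * (q + 1) := by
    obtain ⟨m, rfl⟩ : ∃ m, q = m + 1 := ⟨q - 1, by omega⟩
    rw [Nat.add_sub_cancel]
    have : (m + 1) ^ 2 = m * (m + 1 + 1) + 1 := by ring
    omega
  have h1 : ∀ p : ℕ, p.Prime → p ∣ q - 1 → p ≤ 3 := fun p hp hd => h p hp (by rw [e]; exact hd.mul_right _)
  have h2 : ∀ p : ℕ, p.Prime → p ∣ q + 1 → p ≤ 3 := fun p hp hd => h p hp (by rw [e]; exact hd.mul_left _)
  rcases Nat.even_or_odd' q with ⟨m, rfl | rfl⟩
  · -- even
    obtain ⟨a, b, hab⟩ := smooth (n := 2 * m - 1) (by omega) h1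
    obtain ⟨c, d, hcd⟩ := smooth (n := 2 * m + 1) (by omega) h2
    have ha : a = 0 := by
      by_contra ha
      obtain ⟨s, rfl⟩ := Nat.exists_eq_succ_of_ne_zero ha
      rw [pow_succ] at hab
      have : (2 * m - 1) % 2 = 0 := by rw [hab, mul_comm (2 ^ s), mul_assoc]; omega
      omega
    have hc : c = 0 := by
      by_contra ha
      obtain ⟨s, rfl⟩ := Nat.exists_eq_succ_of_ne_zero ha
      rw [pow_succ] at hcd
      have : (2 * m + 1) % 2 = 0 := by rw [hcd, mul_comm (2 ^ s), mul_assoc]; omega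
      omega
    subst ha
    subst hc
    rw [pow_zero, one_mul] at hab hcd
    have hb : b = 0 := by
      by_contra hb
      obtain ⟨s, rfl⟩ := Nat.exists_eq_succ_of_ne_zero hb
      have hd : d ≠ 0 := by
        rintro rfl
        rw [pow_zero] at hcd
        omega
      obtain ⟨t, rfl⟩ := Nat.exists_eq_succ_of_ne_zero hd
      rw [pow_succ] at hab hcd
      omega
    subst hb
    rw [pow_zero] at hab
    left
    omega
  · -- odd
    have hm : 1 ≤ m := by omega
    obtain ⟨a, b, hab⟩ := smooth (n := m) (by omega) fun p hp hd => h1 p hp (by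
      rw [Nat.add_sub_cancel]
      exact hd.mul_left 2)
    obtain ⟨c, d, hcd⟩ := smooth (n := m + 1) (by omega) fun p hp hd => h2 p hp (by
      rw [show 2 * m + 1 + 1 = 2 * (m + 1) by ring]
      exact hd.mul_left 2)
    -- `m`, `m + 1` are coprime
    have hac : a = 0 ∨ c = 0 := by
      by_contra hcon
      push Not at hcon
      obtain ⟨s, hs⟩ := Nat.exists_eq_succ_of_ne_zero hcon.1
      obtain ⟨t, ht⟩ := Nat.exists_eq_succ_of_ne_zero hcon.2
      have e1 : m % 2 = 0 := by rw [hab, hs, pow_succ, mul_comm (2 ^ s), mul_assoc]; omega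
      have e2 : (m + 1) % 2 = 0 := by rw [hcd, ht, pow_succ, mul_comm (2 ^ t), mul_assoc]; omega
      omega
    have hbd : b = 0 ∨ d = 0 := by
      by_contra hcon
      push Not at hcon
      obtain ⟨s, hs⟩ := Nat.exists_eq_succ_of_ne_zero hcon.1
      obtain ⟨t, ht⟩ := Nat.exists_eq_succ_of_ne_zero hcon.2
      have e1 : m % 3 = 0 := by rw [hab, hs, pow_succ, ← mul_assoc]; omega
      have e2 : (m + 1) % 3 = 0 := by rw [hcd, ht, pow_succ, ← mul_assoc]; omega
      omega
    rcases hac with rfl | rfl <;> rcases hbd with rfl | rfl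
    · -- `m = 1`
      norm_num at hab
      omega
    · -- `m = 3 ^ b`, `m + 1 = 2 ^ c`
      rw [pow_zero, one_mul] at hab
      rw [pow_zero, mul_one] at hcd
      have h3 : 2 ^ c = 3 ^ b + 1 := by omega
      have h4 := two_three_a h3
      interval_cases c <;> omega
    · -- `m = 2 ^ a`, `m + 1 = 3 ^ d`
      rw [pow_zero, mul_one] at hab
      rw [pow_zero, one_mul] at hcd
      have h3 : 3 ^ d = 2 ^ a + 1 := by omega
      have h4 := two_three_b h3
      interval_cases d <;> omega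
    · norm_num at hcd
      omega

/-- **`PSL_3(q)`, `q ≠ 2`** -/
theorem pp_psl_three_all (F : Type*) [Field F] [Finite F] (h2 : Nat.card F ≠ 2) :
    Cfsg.Agent.H494.TC.PP (ProjectiveSpecialLinearGroup (Fin 3) F) := by
  by_cases h : ∀ p : ℕ, p.Prime → p ∣ Nat.card F ^ 2 - 1 → p ≤ 3
  · rcases five_numbers Finite.one_lt_card h with hq | hq | hq | hq | hq
    · exact absurd hq h2
    · exact pp_3 hq
    · exact pp_5 hq
    · exact pp_7 hq
    · exact pp_17 hq
  · push Not at h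
    obtain ⟨s, hs, hd, h3⟩ := h
    have h5 : 5 ≤ s := by
      by_contra hlt
      have : s = 4 := by omega
      rw [this] at hs
      exact absurd hs (by decide)
    exact Cfsg.Agent.H962.TC.pp_psl_three F hs h5 hd

end Cfsg.Agent.H922.TC.L3
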