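import Cfsg.Agent.H922.TC.Eng
import Cfsg.Agent.H922.Ore.HSFinal
import Cfsg.Agent.H140.TC.Fam
import Cfsg.Agent.H494.TC.Base

/-!
# `HS`: two fixed classes (7A, 7A) (helper922, S4173, S2464)
-/

set_option autoImplicit false

namespace Cfsg.Agent.H922.TC.HS

open Equiv Cfsg.Agent.HN.HS100 Cfsg.Agent.HN.Pres Cfsg.Agent.SporadicA.PermTab
open Cfsg.Agent.H922.Ore.Gr Cfsg.Agent.H922.Ore.HS Cfsg.Agent.H922.TC

/-- the words -/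
def wt : Fin 21 → W2 := ![
  ⟨[], [], [], []⟩,
  ⟨[tWi, tYi, tWi, tYi, tX, tY, tW, tW, tX, tW, tW, tX, tWi, tX],
    [tX, tW, tX, tWi, tWi, tX, tWi, tWi, tYi, tX, tY, tW, tY, tW],
    [tX, tW, tY, tW, tYi],
    [tY, tWi, tYi, tWi, tX]⟩,
  ⟨[tYi, tWi, tX, tW, tY, tY, tW, tY, tX, tYi, tWi, tWi, tX, tY],
    [tYi, tX, tW, tW, tY, tX, tYi, tWi, tYi, tYi, tWi, tX, tW, tY],
    [tYi, tX, tY, tX, tYi, tWi],
    [tW, tY, tX, tYi, tX, tY]⟩,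
  ⟨[tWi, tY, tY, tW, tY, tW, tW, tW, tX, tW],
    [tWi, tX, tWi, tWi, tWi, tYi, tWi, tYi, tYi, tW],
    [tYi, tX, tW, tW, tY],
    [tYi, tWi, tWi, tX, tY]⟩,
  ⟨[tY, tW, tX, tWi, tWi, tYi, tX, tWi, tYi, tX, tW, tW],
    [tWi, tWi, tX, tY, tW, tX, tY, tW, tW, tX, tWi, tYi],
    [tX, tW, tYi, tYi, tWi],
    [tW, tY, tY, tWi, tX]⟩,
  ⟨[tWi, tWi, tYi, tX, tYi, tYi, tWi, tX, tYi, tX, tWi, tX],
    [tX, tW, tX, tY, tX, tW, tY, tY, tX, tY, tW, tW],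
    [tYi, tYi, tW, tX, tWi, tWi],
    [tW, tW, tX, tWi, tY, tY]⟩,
  ⟨[tYi, tX, tWi, tWi, tY, tW, tX, tW, tX, tW, tY, tW],
    [tWi, tYi, tWi, tX, tWi, tX, tWi, tYi, tW, tW, tX, tY],
    [tY, tW, tY, tX, tY, tW],
    [tWi, tYi, tX, tYi, tWi, tYi]⟩,
  ⟨[tX, tWi, tYi, tX, tYi, tWi, tYi, tWi, tWi, tYi, tYi, tWi],
    [tW, tY, tY, tW, tW, tY, tW, tY, tX, tY, tW, tX],
    [tWi, tX, tWi, tYi, tX],
    [tX, tY, tW, tX, tW]⟩,
  ⟨[tW, tW, tW, tY, tX, tW, tY, tW, tYi, tYi, tWi, tWi],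
    [tW, tW, tY, tY, tWi, tYi, tWi, tX, tYi, tWi, tWi, tWi],
    [tYi, tX, tY, tWi, tYi, tW],
    [tWi, tY, tW, tYi, tX, tY]⟩,
  ⟨[tX, tYi, tWi, tY, tY, tW, tW, tX, tW, tW],
    [tWi, tWi, tX, tWi, tWi, tYi, tYi, tW, tY, tX],
    [tWi, tY, tY],
    [tYi, tYi, tW]⟩,
  ⟨[tY, tY, tX, tY, tW, tW, tYi, tWi, tX, tYi, tX, tY],
    [tYi, tX, tY, tX, tW, tY, tWi, tWi, tYi, tX, tYi, tYi],
    [tYi, tX, tYi, tYi, tX],
    [tX, tY, tY, tX, tY]⟩,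
  ⟨[tX, tW, tY, tWi, tX, tYi, tYi, tX, tYi, tX, tYi, tYi, tYi],
    [tY, tY, tY, tX, tY, tX, tY, tY, tX, tW, tYi, tWi, tX],
    [tYi, tW, tY, tW, tW],
    [tWi, tWi, tYi, tWi, tY]⟩,
  ⟨[tX, tY, tX, tY, tY, tY, tX, tY, tW, tW, tX, tY, tY],
    [tYi, tYi, tX, tWi, tWi, tYi, tX, tYi, tYi, tYi, tX, tYi, tX],
    [tY, tWi, tYi, tWi, tY],
    [tYi, tW, tY, tW, tYi]⟩,
  ⟨[tYi, tWi, tWi, tX, tYi, tYi, tWi, tX, tW, tY, tY, tW, tY, tY],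
    [tYi, tYi, tWi, tYi, tYi, tWi, tX, tW, tY, tY, tX, tW, tW, tY],
    [tWi, tWi, tX, tY, tY],
    [tYi, tYi, tX, tW, tW]⟩,
  ⟨[tWi, tYi, tW, tW, tY, tY, tW, tYi, tYi, tWi],
    [tW, tY, tY, tWi, tYi, tYi, tWi, tWi, tY, tW],
    [tYi, tWi, tYi, tW, tYi],
    [tY, tWi, tY, tW, tY]⟩,
  ⟨[tY, tW, tX, tY, tW, tY, tW, tYi, tWi, tWi, tY, tW, tYi],
    [tY, tWi, tYi, tW, tW, tY, tWi, tYi, tWi, tYi, tX, tWi, tYi],
    [tYi, tYi, tX, tYi, tYi, tX],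
    [tX, tY, tY, tX, tY, tY]⟩,
  ⟨[tWi, tYi, tYi, tX, tWi, tYi, tWi, tYi, tW, tY, tX, tYi],
    [tY, tX, tYi, tWi, tY, tW, tY, tW, tX, tY, tY, tW],
    [tX, tW, tW, tYi, tWi, tWi],
    [tW, tW, tY, tWi, tWi, tX]⟩,
  ⟨[tYi, tW, tW, tYi, tX, tWi, tYi, tWi, tYi, tW, tW, tY, tX],
    [tX, tYi, tWi, tWi, tY, tW, tY, tW, tX, tY, tWi, tWi, tY],
    [tYi, tX, tYi, tX, tW],
    [tWi, tX, tY, tX, tY]⟩,
  ⟨[tY, tW, tY, tW, tYi, tWi, tY, tX, tYi, tWi, tWi, tYi, tX],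
    [tX, tY, tW, tW, tY, tX, tYi, tW, tY, tWi, tYi, tWi, tYi],
    [tY, tWi, tY, tY],
    [tYi, tYi, tW, tYi]⟩,
  ⟨[tY, tX, tYi, tWi, tWi, tYi, tYi, tWi, tY, tY, tW, tY, tX],
    [tX, tYi, tWi, tYi, tYi, tW, tY, tY, tW, tW, tY, tX, tYi],
    [tWi, tY, tX],
    [tX, tYi, tW]⟩,
  ⟨[tW, tY, tX, tY, tWi, tWi, tX, tWi, tYi, tX, tY, tX],
    [tX, tYi, tX, tY, tW, tX, tW, tW, tYi, tX, tYi, tWi],
    [tX, tY, tW, tX, tW, tX],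
    [tX, tWi, tX, tWi, tYi, tX]⟩]

/-- the word of an odd element centralizing the element of order 7 -/
def w0 : List ℕ := [tWi, tY, tY, tW, tYi, tWi, tYi, tWi, tYi, tYi, tWi, tWi, tYi]

theorem wt_chk : ∀ i : Fin 21, i ≠ 0 → (wt i).chk 100 d12.X d12.X (D i).X = true := by
  intro i
  revert i
  decide +kernel

theorem wt_mem : ∀ i : Fin 21, ∀ P ∈ (wt i).A ++ (wt i).Ai ++ (wt i).B ++ (wt i).Bi, InG Q P := by
  intro i P hP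
  apply in5g
  revert P
  fin_cases i <;> decide +kernel

theorem d0_one : eqv 100 [(D 0).X] [] = true := by decide +kernel

theorem two_Q : ∃ x ∈ Q, orderOf x = 7 ∧ ∀ g ∈ Q, g ≠ 1 → ∃ u ∈ Q, ∃ v ∈ Q, g = (u * x * u⁻¹) * (v * x * v⁻¹) := by
  obtain ⟨h1, h2⟩ := conj_all (R := φ.range) (A := adjA) Q_le_range range_le norm_Q D chk_all mem_all (by
    intro i j
    revert i j
    decide +kernel) (by
    rw [card_range, card_Q_eq]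
    decide +kernel)
  obtain ⟨x, hx, hxa⟩ := h1 12
  have hxa' : Acts x [d12.X] := hxa
  -- the odd element
  obtain ⟨w, hw, hw'⟩ := exists_ev (G := Q) w0 (fun P hP => in5g P (by revert P; decide +kernel))
  have hZ : Acts (φ gz) [tZ] := fun _ => by rw [φ_gz]; rfl
  have hr : Acts (φ gz * w) (w0 ++ [tZ]) := Acts.mul hZ hw'
  have hrx : (φ gz * w) * x = x * (φ gz * w) :=
    Acts.eq (Acts.mul hr hxa') (Acts.mul hxa' hr) (by decide +kernel)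
  set r : Perm (Fin 100) := φ gz * w with hrd
  have hrR : r ∈ φ.range := φ.range.mul_mem ⟨gz, rfl⟩ (Q_le_range hw)
  have hsr : Perm.sign r = -1 := by
    rw [hrd, map_mul, (mem_Q_iff (Q_le_range hw)).1 hw, mul_one]
    exact sgn_gz
  have key : ∀ c ∈ φ.range, ∀ u ∈ Q, ∃ u' ∈ Q, c * (u * x * u⁻¹) * c⁻¹ = u' * x * u'⁻¹ := by
    intro c hc u hu
    rcases Int.units_eq_one_or (Perm.sign c) with h | h
    · refine ⟨c * u, Q.mul_mem ((mem_Q_iff hc).2 h) hu, by group⟩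
    · refine ⟨c * u * r⁻¹, ?_, ?_⟩
      · rw [mem_Q_iff (φ.range.mul_mem (φ.range.mul_mem hc (Q_le_range hu)) (φ.range.inv_mem hrR)), map_mul, map_mul,
          map_inv, h, hsr, (mem_Q_iff (Q_le_range hu)).1 hu]
        decide
      · have e : r⁻¹ * x * r = x := by rw [mul_assoc, ← hrx, inv_mul_cancel_left]
        calc c * (u * x * u⁻¹) * c⁻¹ = c * u * x * (c * u)⁻¹ := by group
          _ = c * u * (r⁻¹ * x * r) * (c * u)⁻¹ := by rw [e]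
          _ = _ := by group
  refine ⟨x, hx, ?_, ?_⟩
  · have h7 : Acts (x ^ 7) (List.replicate 7 d12.X) := by
      have e : x ^ 7 = x * (x * (x * (x * (x * (x * x))))) := by
        simp only [pow_succ, pow_zero, one_mul, mul_assoc]
      rw [e]
      exact Acts.mul hxa' (Acts.mul hxa' (Acts.mul hxa' (Acts.mul hxa' (Acts.mul hxa' (Acts.mul hxa' hxa')))))
    refine orderOf_eq_prime (p := 7) (hp := ⟨by norm_num⟩) (Acts.eq h7 Acts.one (by decide +kernel)) ?_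
    intro h1
    have h3 := hxa' 0
    rw [h1] at h3
    revert h3
    decide +kernel
  · intro g hg hg1
    obtain ⟨i, p, hp, hpa, c, hc, rfl⟩ := h2 g hg
    have hi : i ≠ 0 := by
      rintro rfl
      apply hg1
      have : p = 1 := Acts.eq hpa Acts.one d0_one
      rw [this, mul_one, mul_inv_cancel]
    obtain ⟨u, hu, v, hv, e⟩ := W2.ok (wt i) (wt_chk i hi) (wt_mem i) hxa' hxa' hpa
    obtain ⟨u', hu', e1⟩ := key c hc u hu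
    obtain ⟨v', hv', e2⟩ := key c hc v hv
    refine ⟨u', hu', v', hv', ?_⟩
    rw [← e1, ← e2, e]
    group

/-- **The row `HS`.** -/
theorem pp_hs {S : Type*} [Group S] (h : Spor.IsoHS S) : Cfsg.Agent.H494.TC.PP S := by
  obtain ⟨⟨e⟩, -⟩ := Cfsg.Agent.HN.AutHS.nonempty_Q
  obtain ⟨f⟩ := h
  refine Cfsg.Agent.H494.TC.PP.of_equiv (f.trans e.symm) ?_
  obtain ⟨x, hx, h7, h⟩ := two_Q
  have hc : orderOf (⟨x, hx⟩ : Q) = 7 := by rw [← h7]; exact (Subgroup.orderOf_coe _).symm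
  refine ⟨⟨x, hx⟩, by rw [hc]; norm_num, by rw [hc]; norm_num, fun g hg => ?_⟩
  obtain ⟨u, hu, v, hv, e1⟩ := h g g.2 (fun h1 => hg (Subtype.ext h1))
  exact ⟨⟨u, hu⟩, ⟨v, hv⟩, Subtype.ext e1⟩

theorem tc_hs {S : Type*} [Group S] (h : Spor.IsoHS S) : Cfsg.Agent.H140.TC.TC S := (pp_hs h).tc

end Cfsg.Agent.H922.TC.HS
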