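import Cfsg.Agent.H922.Ore.MTwelve
import Cfsg.Agent.H494.TC.Base
import Cfsg.Agent.H140.TC.Fam

/-!
# `M₁₂` and `M₁₁`: every nonidentity element is a product of two conjugates of an element of order 5
(helper922, S4173, S2464, S2452)
-/

set_option autoImplicit false

namespace Cfsg.Agent.H922.TC.Mat

open Cfsg Equiv Cfsg.Agent.SporadicStructure.M12Core Cfsg.Agent.SporadicStructure.DodecadM12 Cfsg.Agent.H922.Ore
open scoped Pointwise

/-- the check `P = a x a⁻¹ b x b⁻¹` -/
def chkW (mem : ℕ → Bool) (x P : ℕ) : List ℕ → Bool
  | [Q, a, c, b, d] => Nat.beq P Q && (mem a && (mem b && (valid c && (valid d && (valid x && (valid P &&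
      (eqW [c, a] [] && (eqW [d, b] [] && eqW [P] [a, x, c, b, x, d]))))))))
  | _ => false

theorem of_chkW {G : Subgroup (Perm GolayPt)} {mem : ℕ → Bool} (hG : Mem G mem) {x P : ℕ} {w : List ℕ}
    (h : chkW mem x P w = true) :
    ∃ u ∈ G, ∃ v ∈ G, perm P = (u * perm x * u⁻¹) * (v * perm x * v⁻¹) := by
  match w, h with
  | [Q, a, c, b, d], h =>
    simp only [chkW, Bool.and_eq_true] at h
    obtain ⟨-, ha, hb, hc, hd, hx, hP, h1, h2, h3⟩ := h
    have e1 : (perm c : Perm GolayPt) * perm a = 1 := by
      have := wp_eq (L := [c, a]) (M := []) (by simp [hc, hG.valid a ha]) (by simp) h1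
      rwa [wp_cons, wp_one, wp_nil] at this
    have e2 : (perm d : Perm GolayPt) * perm b = 1 := by
      have := wp_eq (L := [d, b]) (M := []) (by simp [hd, hG.valid b hb]) (by simp) h2
      rwa [wp_cons, wp_one, wp_nil] at this
    have e3 := wp_eq (L := [P]) (M := [a, x, c, b, x, d]) (by simp [hP])
      (by simp [hG.valid a ha, hG.valid b hb, hx, hc, hd]) h3
    rw [wp_one, wp_cons, wp_cons, wp_cons, wp_cons, wp_cons, wp_one, eq_inv_of_mul_eq_one_left e1,
      eq_inv_of_mul_eq_one_left e2] at e3
    refine ⟨_, hG.mem a ha, _, hG.mem b hb, ?_⟩
    rw [e3]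
    group

/-- product of two conjugates of `x`, or trivial -/
def Pr (G : Subgroup (Perm GolayPt)) (x g : Perm GolayPt) : Prop :=
  g = 1 ∨ ∃ u ∈ G, ∃ v ∈ G, g = (u * x * u⁻¹) * (v * x * v⁻¹)

theorem Pr.conj {G : Subgroup (Perm GolayPt)} {x : Perm GolayPt} (c : Perm GolayPt) (hc : c ∈ G) (g : Perm GolayPt)
    (h : Pr G x (c * g * c⁻¹)) : Pr G x g := by
  rcases h with h | ⟨u, hu, v, hv, h⟩
  · left
    have e : g = c⁻¹ * (c * g * c⁻¹) * c := by group
    rw [e, h]
    group
  · right
    refine ⟨c⁻¹ * u, G.mul_mem (G.inv_mem hc) hu, c⁻¹ * v, G.mul_mem (G.inv_mem hc) hv, ?_⟩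
    have e : g = c⁻¹ * (c * g * c⁻¹) * c := by group
    rw [e, h]
    group

/-- all candidates -/
def chkT (mem : ℕ → Bool) (x : ℕ) (T : List (ℕ × ℕ × ℕ)) (W : List (List ℕ)) : Bool :=
  T.all fun e => mem e.1 && (eqW [e.1] [] || W.any fun w => chkW mem x e.1 w)

theorem of_cov {G : Subgroup (Perm GolayPt)} (hG12 : G ≤ Spor.M12) {mem : ℕ → Bool} (hG : Mem G mem)
    {x : ℕ} {W : List (List ℕ)} {T : List (ℕ × ℕ × ℕ)} (hT : chkT mem x T W = true)
    {g : Perm GolayPt} (hg : g ∈ G) (h : cov T (im g) = true) : Pr G (perm x) g := by
  rw [cov, List.any_eq_true] at h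
  obtain ⟨e, he, h1⟩ := h
  have h2 := List.all_eq_true.1 hT e he
  rw [Bool.and_eq_true] at h2
  have hv := hG.valid _ h2.1
  have h4 : g = perm e.1 := by
    refine eq_of_fix (hG12 hg) (hG12 (hG.mem _ h2.1)) fun i => pos_injective ?_
    rw [pos_perm hv]
    rw [beq_iff_eq] at h1
    simp only [imT, im, List.cons.injEq, and_true] at h1
    obtain ⟨e0, e1, e2, e3, e4⟩ := h1
    fin_cases i
    · show pos (g (ofPos 0)) = dig e.1 (pos (ofPos 0))
      rw [pos_ofPos (by norm_num), e0]
    · show pos (g (ofPos 1)) = dig e.1 (pos (ofPos 1))
      rw [pos_ofPos (by norm_num), e1]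
    · show pos (g (ofPos 2)) = dig e.1 (pos (ofPos 2))
      rw [pos_ofPos (by norm_num), e2]
    · show pos (g (ofPos 3)) = dig e.1 (pos (ofPos 3))
      rw [pos_ofPos (by norm_num), e3]
    · show pos (g (ofPos 4)) = dig e.1 (pos (ofPos 4))
      rw [pos_ofPos (by norm_num), e4]
  rw [h4]
  rw [Bool.or_eq_true] at h2
  rcases h2.2 with h3 | h3
  · left
    have := wp_eq (L := [e.1]) (M := []) (by simpa using hv) (by simp) h3
    rwa [wp_one, wp_nil] at this
  · rw [List.any_eq_true] at h3
    obtain ⟨w, -, hw⟩ := h3
    exact Or.inr (of_chkW hG hw)

/-! ### the data -/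

/-- an element of order 5 of `M₁₂` -/
def x12 : ℕ := 898484729458158192692649263120911425

/-- the conjugators -/
def W12 : List (List ℕ) := [
  [898484729458158192692649263120911425, 731737939817639952940078727137628224, 858614861664229181014237315002926176, 642041783763028730224227993988959360, 642041783763028730224227993988959360],
  [928956207748489646867718987829087297, 819678924886190565967951052910133382, 921131619273422785652803935302600802, 482446833553064458854628755004527105, 228024598201326470339040036593644556],
  [808997555123113364359982859214261313, 816700993225212847562273497391862145, 435754548736481295433554305384390660, 980960582730456002160645249149642156, 982933355912327629955949548596770316],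
  [595156062558968193060776939999071297, 965287351341730379516626162546193476, 970377863307179784230735820886312204, 895010409868804037896696404987038208, 816141942280344669561917366774339872],
  [894826612913440236635879232053054529, 818218056837123202965680406768329856, 320042145551982130541103166004830592, 236880283859613174868634642880667844, 651930649335791696460992850579200592],
  [819500144324392164066639820381883457, 311032593729790146101364953338651009, 222552123462522669727669867632531468, 982954435543331339938996084812620867, 982258522096636814107618103346070788],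
  [591575994440987453871324045598919745, 222680199481576334958198442083693825, 315657013261897808490763984414326796, 588947105963619582732832498281383184, 484999718059561885982213688695265360],
  [921049981145923694173564767094049857, 226787330461664957477652504917443085, 858807354820490830916256889501534626, 236880283859613174868634642880667844, 651930649335791696460992850579200592],
  [733020829433098601945951328301747265, 934191743185501042935910082851283073, 321489676298060426379700589298991122, 611864056470341974989353076807289120, 921049100502817064644276852208275648],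
  [975269103903136450942210555640810561, 309372231593781841279595915306542472, 304539910333553625187007133911501005, 933788878095593830409337451372943872, 446060319541204491210844221594537216],
  [222809027067738147179961976625302593, 320029112901502849361663192765367808, 486110079016816968517585665186466880, 812202058187349091136319427251810889, 609493660060900937153695961439312291],
  [980343459732241923187908594281483329, 881623872065475066034926872602722369, 608445168830906635924654587786658824, 732983876790640340213959906908192841, 222851006849995861508535302178211235],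
  [733886796953376986790965926451743809, 445537562048555050448763006048373260, 933613832811902488357100382312302857, 860835479703537803890310416771055811, 936508793136964822214181959229256994],
  [591256771632032774282378023355288641, 923362449491064188255278091090282601, 487493184785725284026827476713914659, 232775719131361124593376250934329481, 222760061276730121545340576226120098],
  [237127015575156948651106428642135105, 944477599084529022804500987676893574, 944403069611469404127907418577741068, 933788878095593830409337451372943872, 446060319541204491210844221594537216],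
  [595308628611987246373365018095782977, 445953747453170904408262674619613586, 927291010115915562762891972462383208, 812202058187349091136319427251810889, 609493660060900937153695961439312291],
  [898495149309473027537645221522309185, 927127453244095079498657091533546514, 611813300394667892572642416467943937, 320277755275825978978251570515298377, 901081028749880737946996311609967875],
  [720094209060563622350248573986275393, 425346429690405296897964508355768448, 226739128623141653888342362283983264, 236880283859613174868634642880667844, 651930649335791696460992850579200592],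
  [716161247547603793916012212833615937, 725190408104233809375086283862707720, 475953662485427737178938858671251757, 226824094899168041510054980154073665, 895169497388361342805119729993458704],
  [485894848060012814852254170166198337, 845358772825265632453117746885014596, 608136660679244770618045618936972484, 933788878095593830409337451372943872, 446060319541204491210844221594537216],
  [891256915141300104684601826038906945, 319794432925650023570672384601075760, 444637884383319035582989160771855405, 601438788369573693665926774521398403, 476806019968736216886095118806819920],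
  [630159542220795596128273103613722689, 612299619480118344764405426215784848, 941802839981810982087809810678945932, 974177653010309415769932981682242947, 965252997036959663524826613475713094],
  [648568480592680036973442836520370241, 933787600172918402919745956046352452, 321096462285224611372556934262752786, 895010409868804037896696404987038208, 816141942280344669561917366774339872],
  [487075257314043985342414779811233857, 438328443279616839448495125888700809, 479867011284415578640326416654672166, 980960582730456002160645249149642156, 982933355912327629955949548596770316],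
  [608132182080247986231149538876424257, 879757693585922381515898992586719268, 899219805867357451463432143565360162, 642041783763028730224227993988959360, 642041783763028730224227993988959360],
  [735548533734033527546468929854573569, 726484625159968065261419071608890464, 604462992411642239040491538890145984, 601438788369573693665926774521398403, 476806019968736216886095118806819920],
  [968996774143150361768157684793674753, 984157598094154865126982355579324716, 984515176738418816911023620610994371, 226824094899168041510054980154073665, 895169497388361342805119729993458704],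
  [234127864083396158983920601914215425, 731697243779268455325199176513798546, 851100217745262064010526757220653481, 984818244535754528103549039458486304, 984818244535754528103549039458486304],
  [965259690662158669917158057253604353, 653708958515580436811787133756060173, 923384161294970379916911435697434832, 226824094899168041510054980154073665, 895169497388361342805119729993458704],
  [721309179197215149166510279720242177, 304630953049026621933712049545724114, 851099900367942158583094242101830758, 933788878095593830409337451372943872, 446060319541204491210844221594537216],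
  [601305442431200926218084222330014721, 982950817042479998449164607418286514, 975768503982989439366480563722799235, 482446833553064458854628755004527105, 228024598201326470339040036593644556],
  [235858092014725848871085848532159489, 719963627337230484855457068037125416, 601238491612679753722558294136375688, 984818244535754528103549039458486304, 984818244535754528103549039458486304],
  [606616056642888436882462226996333569, 653390909283467390481362006319696966, 932639917458502259241689527831561737, 482446833553064458854628755004527105, 228024598201326470339040036593644556],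
  [984573615201180725592165913404213249, 818201486722162115258180776194749650, 444245261219541858162156461910966406, 933788878095593830409337451372943872, 446060319541204491210844221594537216]]

/-- an element of order 5 of `M₁₁` -/
def x11 : ℕ := 932731258909754711107895596589124672

/-- the conjugators -/
def W11 : List (List ℕ) := [
  [648321739110346641762324489167834176, 815497032470903239439117614120514848, 811893101734318229032488379898793376, 815890003859868970351234123462423584, 809175256424819485299951201547488288],
  [217659858509939740509415197420686400, 646021026391147842709827204913612864, 808279775193429114274612440268702816, 642122845964671879496613804878931360, 466867599687587423368019884883056768],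
  [932731258909754711107895596589124672, 731737939817639952940078727137628224, 858614861664229181014237315002926176, 642041783763028730224227993988959360, 642041783763028730224227993988959360],
  [928915758097480006890646893598215232, 844533480629307119399760081212318816, 724761064115311351344774872813312256, 642041783763028730224227993988959360, 642041783763028730224227993988959360],
  [645607775928673867443213358455721024, 938960904714081253520042164810360192, 653233925347269600271222528553395456, 815890003859868970351234123462423584, 809175256424819485299951201547488288],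
  [221632793092827583847606021369498688, 898742143189044893377746329054414880, 608460305594945736333983948957190176, 466867599687587423368019884883056768, 642122845964671879496613804878931360],
  [860920589307070950875358729706015808, 920916014907837976170334564955600000, 487207849447296581482100998712631680, 642041783763028730224227993988959360, 642041783763028730224227993988959360],
  [858442266781340310812556470406745152, 818019544060708720929634064587624832, 859796343859408413156261659387798784, 642122845964671879496613804878931360, 466867599687587423368019884883056768],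
  [731722996265023435542964160459476032, 858978003307519712412451751995836832, 891400787015205108686012033685129728, 815890003859868970351234123462423584, 809175256424819485299951201547488288],
  [981759386190175716564125263593507904, 443280428326929922862093436801436160, 234564287336007641876355679622963584, 642122845964671879496613804878931360, 466867599687587423368019884883056768],
  [217617199158940686300653144474946624, 596637162507203008555262527775445504, 796436330566472694705492658542252320, 642122845964671879496613804878931360, 466867599687587423368019884883056768],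
  [982939420336662894431691245045713984, 934032030356259388840313115857013152, 446068700487162539827353668161771776, 965056821765719142683987426599674912, 965056821765719142683987426599674912],
  [726098387229991916328255735577218112, 609516005456877772803074057964823584, 851140314547970136627655619352215584, 642126156913901256092130605344032160, 720010887634965904785356432727263296],
  [610727855379770684683436871688162368, 817110407467849866843631507639181728, 601923271263512911800231721851686016, 642041783763028730224227993988959360, 642041783763028730224227993988959360],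
  [221550289410297402012191048719174720, 482447194774975633945705199238853920, 803076561873100833247899219038478528, 642122845964671879496613804878931360, 466867599687587423368019884883056768],
  [596606098937906343490530381836356672, 311109782801093550727880015356503104, 588898899201991801355798109973939776, 321088967912234082975605888885344768, 936533096512312617720504696958273664],
  [648333173198446926654847902756766784, 466624011076989159304336436353177632, 305622300574010086570291784952596512, 642122845964671879496613804878931360, 466867599687587423368019884883056768],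
  [233233386906768391987032901617288256, 811877582567406778677662543208913312, 588448134716661115350161695156879616, 642122845964671879496613804878931360, 466867599687587423368019884883056768]]

theorem chk12 : chkT mem12 x12 T12 W12 = true := by decide +kernel
theorem chk11 : chkT mem11 x11 T11 W11 = true := by decide +kernel
theorem x12_ok : (mem12 x12 && (eqW [x12, x12, x12, x12, x12] [] && !(eqW [x12] []))) = true := by decide +kernel
theorem x11_ok : (mem11 x11 && (eqW [x11, x11, x11, x11, x11] [] && !(eqW [x11] []))) = true := by decide +kernel

theorem order_five {G : Subgroup (Perm GolayPt)} {mem : ℕ → Bool} (hG : Mem G mem) {x : ℕ}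
    (h : (mem x && (eqW [x, x, x, x, x] [] && !(eqW [x] []))) = true) : perm x ∈ G ∧ orderOf (perm x) = 5 := by
  rw [Bool.and_eq_true, Bool.and_eq_true, Bool.not_eq_true'] at h
  obtain ⟨h1, h2, h3⟩ := h
  refine ⟨hG.mem x h1, orderOf_eq_prime (p := 5) (hp := ⟨by norm_num⟩) ?_ ?_⟩
  · have := wp_eq (L := [x, x, x, x, x]) (M := []) (by simp [hG.valid x h1]) (by simp) h2
    rw [wp_cons, wp_cons, wp_cons, wp_cons, wp_one, wp_nil] at this
    rw [← this]
    simp only [pow_succ, pow_zero, one_mul, mul_assoc]
  · intro h4
    have key : eqW [x] [] = true := by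
      unfold eqW
      rw [allB_iff]
      intro i hi
      have h5 := pos_wp (L := [x]) (by simp [hG.valid x h1]) (ofPos i)
      rw [wp_one, h4] at h5
      have h6 : pos ((1 : Perm GolayPt) (ofPos i)) = i := pos_ofPos hi
      rw [h6, pos_ofPos hi] at h5
      rw [← h5]
      exact Nat.beq_refl i
    rw [key] at h3
    exact absurd h3 (by simp)

theorem pp_of {G : Subgroup (Perm GolayPt)} {x : Perm GolayPt} (hx : x ∈ G) (ho : orderOf x = 5)
    (h : ∀ g ∈ G, Pr G x g) : Cfsg.Agent.H494.TC.PP G := by
  have hc : orderOf (⟨x, hx⟩ : G) = 5 := by rw [← ho]; exact (Subgroup.orderOf_coe _).symm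
  refine ⟨⟨x, hx⟩, by rw [hc]; norm_num, by rw [hc]; norm_num, fun g hg => ?_⟩
  rcases h g g.2 with h1 | ⟨u, hu, v, hv, e⟩
  · exact absurd (Subtype.ext h1) hg
  · exact ⟨⟨u, hu⟩, ⟨v, hv⟩, Subtype.ext e⟩

/-! ### `M₁₂` -/

section

variable {Pd : Perm GolayPt → Prop} (hconj : ∀ c ∈ Spor.M12, ∀ g, Pd (c * g * c⁻¹) → Pd g)
  (hT : ∀ g ∈ Spor.M12, cov T12 (im g) = true → Pd g)

include hconj hT

/-- conjugation to a standard position -/
theorem cl12 {g : Perm GolayPt} {x0 x1 x2 x3 x4 : GolayPt} (h : [x0, x1, x2, x3, x4].Nodup)
    (h0 : x0 ∈ Spor.squareDodecad) (h1 : x1 ∈ Spor.squareDodecad) (h2 : x2 ∈ Spor.squareDodecad)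
    (h3 : x3 ∈ Spor.squareDodecad) (h4 : x4 ∈ Spor.squareDodecad) (hg : g ∈ Spor.M12)
    (key : ∀ c ∈ Spor.M12, c x0 = ofPos 0 → c x1 = ofPos 1 → c x2 = ofPos 2 → c x3 = ofPos 3 → c x4 = ofPos 4 →
      cov T12 (im (c * g * c⁻¹)) = true) : Pd g := by
  obtain ⟨c, hc, c0, c1, c2, c3, c4⟩ := tr12 h h0 h1 h2 h3 h4
  have h5 := hT _ (Spor.M12.mul_mem (Spor.M12.mul_mem hc hg) (Spor.M12.inv_mem hc))
    (key c hc c0 c1 c2 c3 c4)
  exact hconj _ hc _ h5


theorem all12 (g : Perm GolayPt) (hg : g ∈ Spor.M12) : Pd g := by
  have hm : ∀ {c : Perm GolayPt}, c ∈ Spor.M12 → c * g * c⁻¹ ∈ Spor.M12 := fun hc =>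
    Spor.M12.mul_mem (Spor.M12.mul_mem hc hg) (Spor.M12.inv_mem hc)
  have iv : ∀ {p : GolayPt}, p ∈ Spor.squareDodecad → g p ∈ Spor.squareDodecad := fun hp => inv_dd hg hp
  rcases cyc5 (σ := g) (Y := Spor.squareDodecad) (by rw [card_squareDodecad]; norm_num) with
    ⟨x, hx, hn⟩ | ⟨x, hx, z, hz, h1, hn⟩ | ⟨x, hx, z, hz, h1, hn⟩ | ⟨x, hx, z, hz, w, hw, h1, h2, h3, hn⟩ |
    ⟨x, hx, z, hz, w, hw, h1, h2, hn⟩ | ⟨x, hx, z, hz, w, hw, u, hu, h1, h2, h3, h4, hn⟩ |
    ⟨x, hx, y, hy, z, hz, w, hw, u, hu, h1, h2, h3, h4, h5, hn⟩
  · refine cl12 hconj hT hn hx (iv hx) (iv (iv hx)) (iv (iv (iv hx))) (iv (iv (iv (iv hx)))) hg fun c hc c0 c1 c2 c3 c4 => ?_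
    refine last (hm hc) (a := 1) (b := 2) (c := 3) (d := 4) ?_ ?_ ?_ ?_ (by decide +kernel)
    · rw [val c0, c1, pos_ofPos (by norm_num)]
    · rw [val c1, c2, pos_ofPos (by norm_num)]
    · rw [val c2, c3, pos_ofPos (by norm_num)]
    · rw [val c3, c4, pos_ofPos (by norm_num)]
  · refine cl12 hconj hT hn hx (iv hx) (iv (iv hx)) (iv (iv (iv hx))) hz hg fun c hc c0 c1 c2 c3 c4 => ?_
    refine last (hm hc) (a := 1) (b := 2) (c := 3) (d := 0) ?_ ?_ ?_ ?_ (by decide +kernel)
    · rw [val c0, c1, pos_ofPos (by norm_num)]
    · rw [val c1, c2, pos_ofPos (by norm_num)]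
    · rw [val c2, c3, pos_ofPos (by norm_num)]
    · rw [val c3, h1, c0, pos_ofPos (by norm_num)]
  · refine cl12 hconj hT hn hx (iv hx) (iv (iv hx)) hz (iv hz) hg fun c hc c0 c1 c2 c3 c4 => ?_
    refine last (hm hc) (a := 1) (b := 2) (c := 0) (d := 4) ?_ ?_ ?_ ?_ (by decide +kernel)
    · rw [val c0, c1, pos_ofPos (by norm_num)]
    · rw [val c1, c2, pos_ofPos (by norm_num)]
    · rw [val c2, h1, c0, pos_ofPos (by norm_num)]
    · rw [val c3, c4, pos_ofPos (by norm_num)]
  · refine cl12 hconj hT hn hx (iv hx) (iv (iv hx)) hz hw hg fun c hc c0 c1 c2 c3 c4 => ?_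
    have e : im (c * g * c⁻¹) = [1, 2, 0, 3, 4] := by
      unfold im
      rw [val c0, val c1, val c2, val c3, val c4, c1, c2, h1, h2, h3, c0, c3, c4, pos_ofPos (by norm_num),
        pos_ofPos (by norm_num), pos_ofPos (by norm_num), pos_ofPos (by norm_num), pos_ofPos (by norm_num)]
    rw [e]
    decide +kernel
  · refine cl12 hconj hT hn hx (iv hx) hz (iv hz) hw hg fun c hc c0 c1 c2 c3 c4 => ?_
    refine last (hm hc) (a := 1) (b := 0) (c := 3) (d := 2) ?_ ?_ ?_ ?_ (by decide +kernel)
    · rw [val c0, c1, pos_ofPos (by norm_num)]
    · rw [val c1, h1, c0, pos_ofPos (by norm_num)]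
    · rw [val c2, c3, pos_ofPos (by norm_num)]
    · rw [val c3, h2, c2, pos_ofPos (by norm_num)]
  · refine cl12 hconj hT hn hx (iv hx) hz hw hu hg fun c hc c0 c1 c2 c3 c4 => ?_
    have e : im (c * g * c⁻¹) = [1, 0, 2, 3, 4] := by
      unfold im
      rw [val c0, val c1, val c2, val c3, val c4, c1, h1, h2, h3, h4, c0, c2, c3, c4, pos_ofPos (by norm_num),
        pos_ofPos (by norm_num), pos_ofPos (by norm_num), pos_ofPos (by norm_num), pos_ofPos (by norm_num)]
    rw [e]
    decide +kernel
  · refine cl12 hconj hT hn hx hy hz hw hu hg fun c hc c0 c1 c2 c3 c4 => ?_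
    have e : im (c * g * c⁻¹) = [0, 1, 2, 3, 4] := by
      unfold im
      rw [val c0, val c1, val c2, val c3, val c4, h1, h2, h3, h4, h5, c0, c1, c2, c3, c4, pos_ofPos (by norm_num),
        pos_ofPos (by norm_num), pos_ofPos (by norm_num), pos_ofPos (by norm_num), pos_ofPos (by norm_num)]
    rw [e]
    decide +kernel


end

/-! ### `M₁₁` -/

section

variable {Pd : Perm GolayPt → Prop} (hconj : ∀ c ∈ Spor.M11, ∀ g, Pd (c * g * c⁻¹) → Pd g)
  (hT : ∀ g ∈ Spor.M11, cov T11 (im g) = true → Pd g)

include hconj hT

theorem cl11 {g : Perm GolayPt} {x1 x2 x3 x4 : GolayPt} (h : [x1, x2, x3, x4].Nodup)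
    (h1 : x1 ∈ Spor.squareDodecad.erase (ofPos 0)) (h2 : x2 ∈ Spor.squareDodecad.erase (ofPos 0))
    (h3 : x3 ∈ Spor.squareDodecad.erase (ofPos 0)) (h4 : x4 ∈ Spor.squareDodecad.erase (ofPos 0))
    (hg : g ∈ Spor.M11)
    (key : ∀ c ∈ Spor.M11, c x1 = ofPos 1 → c x2 = ofPos 2 → c x3 = ofPos 3 → c x4 = ofPos 4 →
      cov T11 (im (c * g * c⁻¹)) = true) : Pd g := by
  rw [Finset.mem_erase] at h1 h2 h3 h4
  obtain ⟨c, hc, c0, c1, c2, c3, c4⟩ := tr12 (x0 := ofPos 0) (x1 := x1) (x2 := x2) (x3 := x3) (x4 := x4) (by
    rw [List.nodup_cons]
    refine ⟨?_, h⟩
    simp only [List.mem_cons, List.not_mem_nil, or_false, not_or]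
    exact ⟨h1.1.symm, h2.1.symm, h3.1.symm, h4.1.symm⟩) (b_mem 0) h1.2 h2.2 h3.2 h4.2
  have hc' : c ∈ Spor.M11 := by
    refine ⟨hc, ?_⟩
    rw [ofPos_zero] at c0
    exact c0
  have h5 := hT _ (Spor.M11.mul_mem (Spor.M11.mul_mem hc' hg) (Spor.M11.inv_mem hc'))
    (key c hc' c1 c2 c3 c4)
  exact hconj _ hc' _ h5


theorem all11 (g : Perm GolayPt) (hg : g ∈ Spor.M11) : Pd g := by
  have hm : ∀ {c : Perm GolayPt}, c ∈ Spor.M11 → c * g * c⁻¹ ∈ Spor.M11 := fun hc =>
    Spor.M11.mul_mem (Spor.M11.mul_mem hc hg) (Spor.M11.inv_mem hc)
  have iv : ∀ {p : GolayPt}, p ∈ Spor.squareDodecad.erase (ofPos 0) → g p ∈ Spor.squareDodecad.erase (ofPos 0) := by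
    intro p hp
    rw [Finset.mem_erase] at hp ⊢
    refine ⟨fun h => hp.1 ?_, inv_dd (M11_le hg) hp.2⟩
    apply g.injective
    rw [h, fix11 hg]
  have f0 : ∀ {c : Perm GolayPt}, c ∈ Spor.M11 → pos ((c * g * c⁻¹) (ofPos 0)) = 0 := fun hc => by
    rw [fix11 (hm hc), pos_ofPos (by norm_num)]
  rcases cyc4 (σ := g) (Y := Spor.squareDodecad.erase (ofPos 0)) (by
      rw [Finset.card_erase_of_mem (show ofPos 0 ∈ Spor.squareDodecad from b_mem 0), card_squareDodecad]; norm_num) with
    ⟨x, hx, hn⟩ | ⟨x, hx, z, hz, h1, hn⟩ | ⟨x, hx, z, hz, h1, h2, hn⟩ | ⟨x, hx, z, hz, w, hw, h1, h2, h3, hn⟩ |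
    ⟨x, hx, y, hy, z, hz, w, hw, h1, h2, h3, h4, hn⟩
  · refine cl11 hconj hT hn hx (iv hx) (iv (iv hx)) (iv (iv (iv hx))) hg fun c hc c1 c2 c3 c4 => ?_
    refine last (M11_le (hm hc)) (a := 0) (b := 2) (c := 3) (d := 4) (f0 hc) ?_ ?_ ?_ (by decide +kernel)
    · rw [val c1, c2, pos_ofPos (by norm_num)]
    · rw [val c2, c3, pos_ofPos (by norm_num)]
    · rw [val c3, c4, pos_ofPos (by norm_num)]
  · refine cl11 hconj hT hn hx (iv hx) (iv (iv hx)) hz hg fun c hc c1 c2 c3 c4 => ?_
    refine last (M11_le (hm hc)) (a := 0) (b := 2) (c := 3) (d := 1) (f0 hc) ?_ ?_ ?_ (by decide +kernel)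
    · rw [val c1, c2, pos_ofPos (by norm_num)]
    · rw [val c2, c3, pos_ofPos (by norm_num)]
    · rw [val c3, h1, c1, pos_ofPos (by norm_num)]
  · refine cl11 hconj hT hn hx (iv hx) hz (iv hz) hg fun c hc c1 c2 c3 c4 => ?_
    have e : im (c * g * c⁻¹) = [0, 2, 1, 4, 3] := by
      unfold im
      rw [f0 hc, val c1, val c2, val c3, val c4, c2, h1, h2, c1, c3, c4, pos_ofPos (by norm_num),
        pos_ofPos (by norm_num), pos_ofPos (by norm_num), pos_ofPos (by norm_num)]
    rw [e]
    decide +kernel
  · refine cl11 hconj hT hn hx (iv hx) hz hw hg fun c hc c1 c2 c3 c4 => ?_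
    have e : im (c * g * c⁻¹) = [0, 2, 1, 3, 4] := by
      unfold im
      rw [f0 hc, val c1, val c2, val c3, val c4, c2, h1, h2, h3, c1, c3, c4, pos_ofPos (by norm_num),
        pos_ofPos (by norm_num), pos_ofPos (by norm_num), pos_ofPos (by norm_num)]
    rw [e]
    decide +kernel
  · refine cl11 hconj hT hn hx hy hz hw hg fun c hc c1 c2 c3 c4 => ?_
    have e : im (c * g * c⁻¹) = [0, 1, 2, 3, 4] := by
      unfold im
      rw [f0 hc, val c1, val c2, val c3, val c4, h1, h2, h3, h4, c1, c2, c3, c4, pos_ofPos (by norm_num),
        pos_ofPos (by norm_num), pos_ofPos (by norm_num), pos_ofPos (by norm_num)]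
    rw [e]
    decide +kernel


end

/-! ### the rows -/

theorem pp_m12 {S : Type*} [Group S] (h : Spor.IsoM12 S) : Cfsg.Agent.H494.TC.PP S := by
  obtain ⟨e⟩ := h
  obtain ⟨h1, h2⟩ := order_five Mem12 x12_ok
  exact Cfsg.Agent.H494.TC.PP.of_equiv e (pp_of h1 h2 fun g hg =>
    all12 (Pd := Pr Spor.M12 (perm x12)) Pr.conj (fun g hg h => of_cov le_rfl Mem12 chk12 hg h) g hg)

theorem pp_m11 {S : Type*} [Group S] (h : Spor.IsoM11 S) : Cfsg.Agent.H494.TC.PP S := by
  obtain ⟨e⟩ := h
  obtain ⟨h1, h2⟩ := order_five Mem11 x11_ok
  exact Cfsg.Agent.H494.TC.PP.of_equiv e (pp_of h1 h2 fun g hg =>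
    all11 (Pd := Pr Spor.M11 (perm x11)) Pr.conj (fun g hg h => of_cov M11_le Mem11 chk11 hg h) g hg)

theorem tc_m12 {S : Type*} [Group S] (h : Spor.IsoM12 S) : Cfsg.Agent.H140.TC.TC S := (pp_m12 h).tc

theorem tc_m11 {S : Type*} [Group S] (h : Spor.IsoM11 S) : Cfsg.Agent.H140.TC.TC S := (pp_m11 h).tc

end Cfsg.Agent.H922.TC.Mat
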