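import Cfsg.Agent.H922.Ore.GraphEng

/-!
# Two fixed classes in permutation groups with a class list (helper922, S4173, S2464)
-/

set_option autoImplicit false

namespace Cfsg.Agent.H922.TC

open Cfsg.Agent.SporadicA.PermTab Equiv
open Cfsg.Agent.H922.Ore (Ok)
open Cfsg.Agent.H922.Ore.Gr

/-- two classes of elements of order prime to 6 whose product contains all nonidentity elements -/
def TC6 (G : Type*) [Group G] : Prop :=
  ∃ x y : G, Nat.Coprime (orderOf x) 6 ∧ Nat.Coprime (orderOf y) 6 ∧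
    ∀ g : G, g ≠ 1 → ∃ u v : G, g = (u * x * u⁻¹) * (v * y * v⁻¹)

theorem TC6.of_equiv {G H : Type*} [Group G] [Group H] (e : G ≃* H) (h : TC6 H) : TC6 G := by
  obtain ⟨a, b, ha, hb, h⟩ := h
  refine ⟨e.symm a, e.symm b, ?_, ?_, fun g hg => ?_⟩
  · rwa [MulEquiv.orderOf_eq]
  · rwa [MulEquiv.orderOf_eq]
  · obtain ⟨u, v, e'⟩ := h (e g) (by
      intro h1
      exact hg (e.injective (by rw [h1, map_one])))
    refine ⟨e.symm u, e.symm v, ?_⟩
    apply e.injective
    rw [e']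
    simp

/-- the words for the two conjugators and their inverses -/
structure W2 where
  A : List ℕ
  Ai : List ℕ
  B : List ℕ
  Bi : List ℕ

/-- the check `P = A X A⁻¹ B Y B⁻¹` -/
def W2.chk (n X Y P : ℕ) (w : W2) : Bool :=
  eqv n (w.A ++ w.Ai) [] && (eqv n (w.B ++ w.Bi) [] &&
    eqv n [P] (((((w.Bi ++ [Y]) ++ w.B) ++ w.Ai) ++ [X]) ++ w.A))

theorem W2.ok {n : ℕ} {G : Subgroup (Perm (Fin n))} {X Y P : ℕ} (w : W2) (h : w.chk n X Y P = true)
    (hm : ∀ P ∈ w.A ++ w.Ai ++ w.B ++ w.Bi, InG G P) {x y p : Perm (Fin n)} (hx : Acts x [X]) (hy : Acts y [Y])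
    (hp : Acts p [P]) : ∃ u ∈ G, ∃ v ∈ G, p = (u * x * u⁻¹) * (v * y * v⁻¹) := by
  simp only [W2.chk, Bool.and_eq_true] at h
  obtain ⟨h1, h2, h3⟩ := h
  simp only [List.mem_append] at hm
  obtain ⟨a, ha, ha'⟩ := exists_ev w.A fun P hP => hm P (by tauto)
  obtain ⟨b, hb, hb'⟩ := exists_ev w.B fun P hP => hm P (by tauto)
  obtain ⟨c, hc, hc'⟩ := exists_ev w.Ai fun P hP => hm P (by tauto)
  obtain ⟨d, hd, hd'⟩ := exists_ev w.Bi fun P hP => hm P (by tauto)
  have e1 : c * a = 1 := Acts.eq (Acts.mul hc' ha') Acts.one h1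
  have e2 : d * b = 1 := Acts.eq (Acts.mul hd' hb') Acts.one h2
  have e3 : c = a⁻¹ := eq_inv_of_mul_eq_one_left e1
  have e4 : d = b⁻¹ := eq_inv_of_mul_eq_one_left e2
  refine ⟨a, ha, b, hb, ?_⟩
  have e5 : Acts (a * (x * (c * (b * (y * d))))) (((((w.Bi ++ [Y]) ++ w.B) ++ w.Ai) ++ [X]) ++ w.A) :=
    Acts.mul ha' (Acts.mul hx (Acts.mul hc' (Acts.mul hb' (Acts.mul hy hd'))))
  have e6 := Acts.eq hp e5 h3
  rw [e6, e3, e4]
  group

/-- **The class list**: every element of `Q` is conjugate in `R` to one of the representatives. -/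
theorem conj_all {n A : ℕ} [NeZero n] {Q R : Subgroup (Perm (Fin n))} (hQR : Q ≤ R) (hRA : R ≤ autG n A)
    (hnorm : ∀ r ∈ R, ∀ q ∈ Q, r * q * r⁻¹ ∈ Q) {ι : Type} [Fintype ι] (D : ι → Cls)
    (hD : ∀ i, (D i).chk n A = true) (hmem : ∀ i, ∀ P ∈ (D i).A ++ (D i).B ++ (D i).S ++ (D i).T ++ (D i).R, InG Q P)
    (hI : Function.Injective fun i => (D i).I) (hs : Nat.card Q ≤ ∑ i, Nat.card R / bnd (D i).L) :
    (∀ i, ∃ x ∈ Q, Acts x [(D i).X]) ∧
      ∀ g ∈ Q, ∃ i, ∃ x ∈ Q, Acts x [(D i).X] ∧ ∃ c ∈ R, c * x * c⁻¹ = g := by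
  classical
  have h0 : ∀ i, ∃ x ∈ Q, Acts x [(D i).X] ∧ Ok Q x := by
    intro i
    have h := hD i
    simp only [Cls.chk, Bool.and_eq_true] at h
    exact Wit.ok (D i).toWit h.1 (hmem i)
  refine ⟨fun i => ?_, ?_⟩
  · obtain ⟨x, hx, hx', -⟩ := h0 i
    exact ⟨x, hx, hx'⟩
  choose x hxQ hxA hxO using h0
  have : (Q.subgroupOf R).Normal := by
    refine ⟨fun q hq r => ?_⟩
    rw [Subgroup.mem_subgroupOf] at hq ⊢
    exact hnorm r r.2 q hq
  intro g hg
  have hcard : Nat.card (Q.subgroupOf R) = Nat.card Q := Nat.card_congr (Subgroup.subgroupOfEquivOfLe hQR).toEquiv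
  obtain ⟨i, hi⟩ := complete (Q.subgroupOf R) (fun i => (⟨x i, hQR (hxQ i)⟩ : R)) (fun i => bnd (D i).L)
    (fun i => hxQ i) (by
      intro i
      have h := hD i
      simp only [Cls.chk, Bool.and_eq_true] at h
      have e : Nat.card ↥(Subgroup.centralizer ({(⟨x i, hQR (hxQ i)⟩ : R)} : Set R)) =
          Nat.card ↥((Subgroup.centralizer ({(⟨x i, hQR (hxQ i)⟩ : R)} : Set R)).map R.subtype) :=
        Nat.card_congr (Subgroup.equivMapOfInjective _ _ R.subtype_injective).toEquiv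
      rw [e]
      refine card_le_of_chC (hxA i) (D i).m (D i).k (D i).L _ [] ?_ ?_ ?_ h.2.1
      · rintro _ ⟨c, -, rfl⟩
        exact hRA c.2
      · rintro _ ⟨c, hc, rfl⟩ j
        have hc' := Subgroup.mem_centralizer_singleton_iff.1 hc
        have h1 := congrArg (fun z : R => (z : Perm (Fin n)) j) hc'
        exact h1
      · intro c _ f hf
        exact absurd hf List.not_mem_nil) (by
      intro i j hij
      obtain ⟨c, hc⟩ := isConj_iff.1 hij
      have h1 : (c : Perm (Fin n)) * x i * (c : Perm (Fin n))⁻¹ = x j := congrArg Subtype.val hc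
      have h2 : (c : Perm (Fin n)) * x i = x j * c := by rw [← h1]; group
      have h3 := inv4v_conj (hRA c.2) h2
      have key : ∀ i, inv4v A (x i) = (D i).I := by
        intro i
        have h := hD i
        simp only [Cls.chk, Bool.and_eq_true] at h
        obtain ⟨-, -, h4⟩ := h
        split at h4
        · next v2 v1 w2 w1 he =>
          rw [he]
          exact inv4v_of (hxA i) h4
        · exact absurd h4 (by simp)
      rw [key, key] at h3
      exact hI h3) (by rw [hcard]; exact hs) ⟨g, hQR hg⟩ hg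
  obtain ⟨c, hc⟩ := isConj_iff.1 hi
  exact ⟨i, x i, hxQ i, hxA i, c, c.2, congrArg Subtype.val hc⟩

end Cfsg.Agent.H922.TC
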