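import Cfsg.Agent.H98.Pw.SLThree
import Cfsg.Agent.SporadicA.FieldFour
import Cfsg.Agent.H494.TC.Base

/-!
# `PSL_3(q)`, `q` prime: every `g ≠ 1` is a product of two conjugates of `x`, from a table (helper922, S4173, S2464, S2452)

Normal forms: a nonscalar matrix of determinant 1 is similar to `cpn a b` or to `dgn h`.
-/

set_option autoImplicit false
set_option maxRecDepth 100000

namespace Cfsg.Agent.H922.TC.L3

open Matrix Cfsg.Agent.H98.Pw

section gen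

variable {F : Type*} [Field F]

/-- companion matrix -/
def cpn (a b : F) : Matrix (Fin 3) (Fin 3) F := !![0, 1, 0; 0, 0, 1; 1, -b, a]

/-- a scalar plus a matrix of rank one -/
def dgn (h : F) : Matrix (Fin 3) (Fin 3) F := !![0, 1, 0; -h⁻¹, h + h⁻¹ * h⁻¹, 0; 0, 0, h]

/-- the rows `v, vA, vA²` -/
def rws (v : Fin 3 → F) (A : Matrix (Fin 3) (Fin 3) F) : Matrix (Fin 3) (Fin 3) F :=
  Matrix.of ![v, v ᵥ* A, v ᵥ* (A * A)]

theorem rws_mul (v : Fin 3 → F) {A : Matrix (Fin 3) (Fin 3) F} (hd : A.det = 1) :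
    rws v A * A = cpn A.trace (s2 A) * rws v A := by
  have h := ch3 A
  rw [hd, one_smul] at h
  have h3 : A * A * A = A.trace • (A * A) - s2 A • A + 1 := by
    rw [← sub_eq_zero, ← h]
    abel
  have h4 : v ᵥ* (A * A * A) = A.trace • (v ᵥ* (A * A)) - s2 A • (v ᵥ* A) + v := by
    rw [h3, vecMul_add, vecMul_sub, vecMul_smul, vecMul_smul, vecMul_one]
  ext i j
  rw [Matrix.mul_apply_eq_vecMul, Matrix.mul_apply_eq_vecMul]
  fin_cases i
  · show (v ᵥ* A) j = _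
    simp [cpn, rws, vecMul, dotProduct, Fin.sum_univ_three]
  · show ((v ᵥ* A) ᵥ* A) j = _
    rw [vecMul_vecMul]
    simp [cpn, rws, vecMul, dotProduct, Fin.sum_univ_three]
  · show ((v ᵥ* (A * A)) ᵥ* A) j = _
    rw [vecMul_vecMul, h4]
    show A.trace * rws v A 2 j - s2 A * rws v A 1 j + rws v A 0 j = _
    have e : (cpn A.trace (s2 A) 2 ᵥ* rws v A) j = 1 * rws v A 0 j + (-s2 A) * rws v A 1 j + A.trace * rws v A 2 j := by
      simp only [vecMul, dotProduct, Fin.sum_univ_three]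
      rfl
    refine Eq.trans ?_ e.symm
    ring

/-- **normal forms** -/
theorem nf {A : Matrix (Fin 3) (Fin 3) F} (hd : A.det = 1) (hA : ∀ c : F, A ≠ scalar (Fin 3) c) :
    ∃ R N : Matrix (Fin 3) (Fin 3) F, IsUnit R.det ∧ R * A = N * R ∧
      ((∃ a b, N = cpn a b) ∨ ∃ h, h ≠ 0 ∧ N = dgn h) := by
  obtain ⟨R, L, hR, hRA, h00, h01, h02⟩ := exists_first A hA
  have hLd : L.det = 1 := by
    have h1 := congrArg Matrix.det hRA
    rw [det_mul, det_mul, hd, mul_one] at h1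
    have h2 : (L.det - 1) * R.det = 0 := by rw [sub_mul, one_mul, ← h1, sub_self]
    rcases mul_eq_zero.1 h2 with h3 | h3
    · exact sub_eq_zero.1 h3
    · exact absurd h3 hR.ne_zero
  -- it is enough to treat `L`
  suffices key : ∃ S N : Matrix (Fin 3) (Fin 3) F, IsUnit S.det ∧ S * L = N * S ∧
      ((∃ a b, N = cpn a b) ∨ ∃ h, h ≠ 0 ∧ N = dgn h) by
    obtain ⟨S, N, hS, hSL, hN⟩ := key
    refine ⟨S * R, N, by rw [det_mul]; exact hS.mul hR, ?_, hN⟩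
    rw [mul_assoc, hRA, ← mul_assoc, hSL, mul_assoc]
  have hcyc : (∃ v : Fin 3 → F, (rws v L).det ≠ 0) → ∃ S N : Matrix (Fin 3) (Fin 3) F, IsUnit S.det ∧ S * L = N * S ∧
      ((∃ a b, N = cpn a b) ∨ ∃ h, h ≠ 0 ∧ N = dgn h) := by
    rintro ⟨v, hv⟩
    exact ⟨rws v L, _, isUnit_iff_ne_zero.2 hv, rws_mul v hLd, Or.inl ⟨_, _, rfl⟩⟩
  obtain ⟨c, hc⟩ : ∃ c, c = L 1 0 := ⟨_, rfl⟩
  obtain ⟨d, hdd⟩ : ∃ d, d = L 1 1 := ⟨_, rfl⟩
  obtain ⟨e, he⟩ : ∃ e, e = L 1 2 := ⟨_, rfl⟩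
  obtain ⟨f, hf⟩ : ∃ f, f = L 2 0 := ⟨_, rfl⟩
  obtain ⟨g, hg⟩ : ∃ g, g = L 2 1 := ⟨_, rfl⟩
  obtain ⟨h, hh⟩ : ∃ h, h = L 2 2 := ⟨_, rfl⟩
  have hL : L = !![0, 1, 0; c, d, e; f, g, h] := by
    ext i j
    fin_cases i <;> fin_cases j <;> simp [h00, h01, h02, hc, hdd, he, hf, hg, hh]
  have hdet : e * f - c * h = 1 := by
    rw [← hLd, hL, Matrix.det_fin_three]
    simp
    ring
  have hrw : ∀ a b t p0 p1 p2 : F, p0 = b * c + t * f → p1 = a + b * d + t * g → p2 = b * e + t * h →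
      (rws ![a, b, t] L).det = a * (p1 * (p1 * e + p2 * h) - p2 * (p0 + p1 * d + p2 * g)) -
        b * (p0 * (p1 * e + p2 * h) - p2 * (p1 * c + p2 * f)) +
        t * (p0 * (p0 + p1 * d + p2 * g) - p1 * (p1 * c + p2 * f)) := by
    intro a b t p0 p1 p2 e0 e1 e2
    have r1 : ![a, b, t] ᵥ* L = ![p0, p1, p2] := by
      rw [hL, e0, e1, e2]
      ext j
      fin_cases j <;> simp [vecMul, dotProduct, Fin.sum_univ_three]
    have r2 : ![a, b, t] ᵥ* (L * L) = ![p1 * c + p2 * f, p0 + p1 * d + p2 * g, p1 * e + p2 * h] := by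
      rw [← vecMul_vecMul, r1, hL]
      ext j
      fin_cases j <;> simp [vecMul, dotProduct, Fin.sum_univ_three]
    rw [Matrix.det_fin_three]
    simp only [rws, r1, r2]
    simp
    ring
  by_cases he0 : e = 0
  · subst he0
    by_cases h2 : f + h * g = 0
    · by_cases h3 : h * h - d * h - c = 0
      · have hh0 : h ≠ 0 := by
          rintro rfl
          rw [mul_zero, zero_mul, sub_zero] at hdet
          exact zero_ne_one hdet
        have hc' : c = -h⁻¹ := by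
          field_simp
          linear_combination -hdet
        have hd' : d = h + h⁻¹ * h⁻¹ := by
          field_simp
          linear_combination -h * h3 + hdet
        refine ⟨!![1, 0, 0; 0, 1, 0; -g, 0, 1], dgn h, ?_, ?_, Or.inr ⟨h, hh0, rfl⟩⟩
        · rw [Matrix.det_fin_three]
          simp
        · rw [hL, dgn, ← hc', ← hd']
          ext i j
          fin_cases i <;> fin_cases j <;> simp [Matrix.mul_apply, Fin.sum_univ_three]
          linear_combination h2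
      · apply hcyc
        refine ⟨![-g * (h * h - d * h - c) + d - h, -1, h * h - d * h - c], ?_⟩
        have e1 : (rws ![-g * (h * h - d * h - c) + d - h, -1, h * h - d * h - c] L).det =
            (h * h - d * h - c) ^ 3 := by
          rw [hrw _ _ _ _ _ _ rfl rfl rfl]
          have hf' : f = -(h * g) := by linear_combination h2
          rw [hf']
          ring
        rw [e1]
        exact pow_ne_zero 3 h3
    · apply hcyc
      refine ⟨![-g, 0, 1], ?_⟩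
      have e1 : (rws ![-g, 0, 1] L).det = (f + h * g) ^ 2 := by
        rw [hrw _ _ _ _ _ _ rfl rfl rfl]
        ring
      rw [e1]
      exact pow_ne_zero 2 h2
  · apply hcyc
    refine ⟨![1, 0, 0], ?_⟩
    rw [hrw _ _ _ _ _ _ rfl rfl rfl]
    simpa using he0

/-- `N` is a product of two conjugates of `x` -/
def Good (x N : Matrix (Fin 3) (Fin 3) F) : Prop :=
  ∃ P P' Q Q' : Matrix (Fin 3) (Fin 3) F, P * P' = 1 ∧ Q * Q' = 1 ∧ P.det = 1 ∧ Q.det = 1 ∧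
    N = (P * x * P') * (Q * x * Q')

theorem main_of {x : Matrix (Fin 3) (Fin 3) F} (hC : ∀ a b : F, Good x (cpn a b)) (hM : ∀ h : F, h ≠ 0 → Good x (dgn h))
    (hD : ∀ t : F, t ≠ 0 → ∃ c : Matrix (Fin 3) (Fin 3) F, c.det = t ∧ c * x = x * c)
    {A : Matrix (Fin 3) (Fin 3) F} (hd : A.det = 1) (hA : ∀ c : F, A ≠ scalar (Fin 3) c) : Good x A := by
  obtain ⟨R, N, hR, hRA, hN⟩ := nf hd hA
  have hG : Good x N := by
    rcases hN with ⟨a, b, rfl⟩ | ⟨h, hh, rfl⟩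
    · exact hC a b
    · exact hM h hh
  obtain ⟨P, P', Q, Q', hP, hQ, hPd, hQd, e⟩ := hG
  obtain ⟨c, hcd, hcx⟩ := hD R.det hR.ne_zero
  have hcu : IsUnit c.det := by rw [hcd]; exact hR
  have c1 : c * c⁻¹ = 1 := mul_nonsing_inv _ hcu
  have c2 : c⁻¹ * c = 1 := nonsing_inv_mul _ hcu
  have r1 : R * R⁻¹ = 1 := mul_nonsing_inv _ hR
  have r2 : R⁻¹ * R = 1 := nonsing_inv_mul _ hR
  have hcx' : c * x * c⁻¹ = x := by rw [hcx, mul_assoc, c1, mul_one]
  have hRd : (R⁻¹).det * R.det = 1 := by rw [← det_mul, r2, det_one]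
  refine ⟨R⁻¹ * P * c, c⁻¹ * P' * R, R⁻¹ * Q * c, c⁻¹ * Q' * R, ?_, ?_, ?_, ?_, ?_⟩
  · calc R⁻¹ * P * c * (c⁻¹ * P' * R) = R⁻¹ * P * (c * c⁻¹) * P' * R := by simp only [mul_assoc]
      _ = R⁻¹ * (P * P') * R := by rw [c1, mul_one]; simp only [mul_assoc]
      _ = 1 := by rw [hP, mul_one, r2]
  · calc R⁻¹ * Q * c * (c⁻¹ * Q' * R) = R⁻¹ * Q * (c * c⁻¹) * Q' * R := by simp only [mul_assoc]
      _ = R⁻¹ * (Q * Q') * R := by rw [c1, mul_one]; simp only [mul_assoc]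
      _ = 1 := by rw [hQ, mul_one, r2]
  · rw [det_mul, det_mul, hPd, hcd, mul_one, hRd]
  · rw [det_mul, det_mul, hQd, hcd, mul_one, hRd]
  · have e1 : A = R⁻¹ * N * R := by rw [mul_assoc, ← hRA, ← mul_assoc, r2, one_mul]
    rw [e1, e]
    calc R⁻¹ * (P * x * P' * (Q * x * Q')) * R = R⁻¹ * P * (c * x * c⁻¹) * P' * (R * R⁻¹) * Q * (c * x * c⁻¹) * Q' * R := by
          rw [hcx', r1]; simp only [mul_assoc, one_mul, mul_one]
      _ = _ := by simp only [mul_assoc]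

end gen

/-! ### tables -/

/-- product -/
def mul9 (q : ℕ) : T9 → T9 → T9
  | (a0, a1, a2, a3, a4, a5, a6, a7, a8), (b0, b1, b2, b3, b4, b5, b6, b7, b8) =>
    ((a0 * b0 + a1 * b3 + a2 * b6) % q, (a0 * b1 + a1 * b4 + a2 * b7) % q, (a0 * b2 + a1 * b5 + a2 * b8) % q,
     (a3 * b0 + a4 * b3 + a5 * b6) % q, (a3 * b1 + a4 * b4 + a5 * b7) % q, (a3 * b2 + a4 * b5 + a5 * b8) % q,
     (a6 * b0 + a7 * b3 + a8 * b6) % q, (a6 * b1 + a7 * b4 + a8 * b7) % q, (a6 * b2 + a7 * b5 + a8 * b8) % q)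

/-- determinant, `w = -1` -/
def det9 (q w : ℕ) : T9 → ℕ
  | (a0, a1, a2, a3, a4, a5, a6, a7, a8) =>
    (a0 * (a4 * a8 + w * (a5 * a7)) + (a1 * (a5 * a6 + w * (a3 * a8)) + a2 * (a3 * a7 + w * (a4 * a6)))) % q

/-- adjugate -/
def adj9 (q w : ℕ) : T9 → T9
  | (a0, a1, a2, a3, a4, a5, a6, a7, a8) =>
    ((a4 * a8 + w * (a5 * a7)) % q, (a2 * a7 + w * (a1 * a8)) % q, (a1 * a5 + w * (a2 * a4)) % q,
     (a5 * a6 + w * (a3 * a8)) % q, (a0 * a8 + w * (a2 * a6)) % q, (a2 * a3 + w * (a0 * a5)) % q,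
     (a3 * a7 + w * (a4 * a6)) % q, (a1 * a6 + w * (a0 * a7)) % q, (a0 * a4 + w * (a1 * a3)) % q)

/-- equality -/
def eq9 : T9 → T9 → Bool
  | (a0, a1, a2, a3, a4, a5, a6, a7, a8), (b0, b1, b2, b3, b4, b5, b6, b7, b8) =>
    Nat.beq a0 b0 && (Nat.beq a1 b1 && (Nat.beq a2 b2 && (Nat.beq a3 b3 && (Nat.beq a4 b4 && (Nat.beq a5 b5 &&
      (Nat.beq a6 b6 && (Nat.beq a7 b7 && Nat.beq a8 b8)))))))

theorem eq9_eq {A B : T9} (h : eq9 A B = true) : A = B := by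
  obtain ⟨a0, a1, a2, a3, a4, a5, a6, a7, a8⟩ := A
  obtain ⟨b0, b1, b2, b3, b4, b5, b6, b7, b8⟩ := B
  simp only [eq9, Bool.and_eq_true] at h
  obtain ⟨h0, h1, h2, h3, h4, h5, h6, h7, h8⟩ := h
  rw [Nat.eq_of_beq_eq_true h0, Nat.eq_of_beq_eq_true h1, Nat.eq_of_beq_eq_true h2, Nat.eq_of_beq_eq_true h3,
    Nat.eq_of_beq_eq_true h4, Nat.eq_of_beq_eq_true h5, Nat.eq_of_beq_eq_true h6, Nat.eq_of_beq_eq_true h7,
    Nat.eq_of_beq_eq_true h8]

theorem mk9_mul (q : ℕ) (A B : T9) : mk9 q (mul9 q A B) = mk9 q A * mk9 q B := by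
  obtain ⟨a0, a1, a2, a3, a4, a5, a6, a7, a8⟩ := A
  obtain ⟨b0, b1, b2, b3, b4, b5, b6, b7, b8⟩ := B
  ext i j
  fin_cases i <;> fin_cases j <;> simp [mk9, mul9, Matrix.mul_apply, Fin.sum_univ_three]

theorem det9_eq {q w : ℕ} (hw : (w : ZMod q) = -1) (A : T9) : ((det9 q w A : ℕ) : ZMod q) = (mk9 q A).det := by
  obtain ⟨a0, a1, a2, a3, a4, a5, a6, a7, a8⟩ := A
  rw [Matrix.det_fin_three]
  simp only [det9, ZMod.natCast_mod]
  push_cast
  rw [hw]
  simp [mk9]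
  ring

theorem mk9_one (q : ℕ) : mk9 q (1, 0, 0, 0, 1, 0, 0, 0, 1) = 1 := by
  ext i j
  fin_cases i <;> fin_cases j <;> simp [mk9]

/-- the check -/
def ckW (q w : ℕ) (x N P Q : T9) : Bool :=
  Nat.beq (det9 q w P) 1 && (Nat.beq (det9 q w Q) 1 && (eq9 (mul9 q P (adj9 q w P)) (1, 0, 0, 0, 1, 0, 0, 0, 1) &&
    (eq9 (mul9 q Q (adj9 q w Q)) (1, 0, 0, 0, 1, 0, 0, 0, 1) &&
      eq9 (mul9 q (mul9 q (mul9 q P x) (adj9 q w P)) (mul9 q (mul9 q Q x) (adj9 q w Q))) N)))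

theorem ckW_good {q w : ℕ} [Fact q.Prime] (hw : (w : ZMod q) = -1) {x N P Q : T9} (h : ckW q w x N P Q = true) :
    Good (mk9 q x) (mk9 q N) := by
  simp only [ckW, Bool.and_eq_true] at h
  obtain ⟨h1, h2, h3, h4, h5⟩ := h
  refine ⟨mk9 q P, mk9 q (adj9 q w P), mk9 q Q, mk9 q (adj9 q w Q), ?_, ?_, ?_, ?_, ?_⟩
  · rw [← mk9_mul, eq9_eq h3, mk9_one]
  · rw [← mk9_mul, eq9_eq h4, mk9_one]
  · rw [← det9_eq hw, Nat.eq_of_beq_eq_true h1, Nat.cast_one]
  · rw [← det9_eq hw, Nat.eq_of_beq_eq_true h2, Nat.cast_one]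
  · rw [← eq9_eq h5]
    simp only [mk9_mul]

/-- the table for the companion matrices -/
def allC (q w : ℕ) (x : T9) (T : List (ℕ × ℕ × T9 × T9)) : Bool :=
  (List.range q).all fun a => (List.range q).all fun b => T.any fun e =>
    Nat.beq e.1 a && (Nat.beq e.2.1 b && ckW q w x (0, 1, 0, 0, 0, 1, 1, (w * b) % q, a) e.2.2.1 e.2.2.2)

/-- the table for the matrices `dgn h` -/
def allM (q w : ℕ) (x : T9) (T : List (ℕ × ℕ × T9 × T9)) : Bool :=
  (List.range q).all fun h => Nat.beq h 0 || T.any fun e =>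
    Nat.beq e.1 h && (Nat.beq ((h * e.2.1) % q) 1 &&
      ckW q w x (0, 1, 0, (w * e.2.1) % q, (h + e.2.1 * e.2.1) % q, 0, 0, 0, h) e.2.2.1 e.2.2.2)

/-- the table of the determinants in the centralizer -/
def allD (q w : ℕ) (x : T9) (T : List (ℕ × T9)) : Bool :=
  (List.range q).all fun t => Nat.beq t 0 || T.any fun e =>
    Nat.beq e.1 t && (Nat.beq (det9 q w e.2) t && eq9 (mul9 q e.2 x) (mul9 q x e.2))

/-- a chain of powers -/
def chn (q : ℕ) (x : T9) : T9 → List (Bool × T9) → Bool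
  | y, [] => eq9 y (1, 0, 0, 0, 1, 0, 0, 0, 1)
  | y, (b, z) :: l => eq9 (cond b (mul9 q (mul9 q y y) x) (mul9 q y y)) z && chn q x z l

/-- the exponent -/
def vl : ℕ → List (Bool × T9) → ℕ
  | n, [] => n
  | n, (b, _) :: l => vl (cond b (2 * n + 1) (2 * n)) l

theorem chn_pow {q : ℕ} {x : T9} {l : List (Bool × T9)} {y : T9} {n : ℕ} (hy : mk9 q y = mk9 q x ^ n)
    (h : chn q x y l = true) : mk9 q x ^ (vl n l) = 1 := by
  induction l generalizing y n with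
  | nil =>
    change eq9 y _ = true at h
    show mk9 q x ^ n = 1
    rw [← hy, eq9_eq h, mk9_one]
  | cons e l ih =>
    obtain ⟨b, z⟩ := e
    rw [chn, Bool.and_eq_true] at h
    refine ih (y := z) ?_ h.2
    rw [← eq9_eq h.1]
    cases b
    · show mk9 q (mul9 q y y) = mk9 q x ^ (2 * n)
      rw [mk9_mul, hy, two_mul, pow_add]
    · show mk9 q (mul9 q (mul9 q y y) x) = mk9 q x ^ (2 * n + 1)
      rw [mk9_mul, mk9_mul, hy, pow_succ, two_mul, pow_add]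

theorem val_eq {q : ℕ} [Fact q.Prime] (a : ZMod q) : ∃ n, n < q ∧ (n : ZMod q) = a :=
  ⟨a.val, ZMod.val_lt a, ZMod.natCast_zmod_val a⟩

theorem good_cpn {q w : ℕ} [Fact q.Prime] (hw : (w : ZMod q) = -1) {x : T9} {T : List (ℕ × ℕ × T9 × T9)}
    (h : allC q w x T = true) (a b : ZMod q) : Good (mk9 q x) (cpn a b) := by
  obtain ⟨m, hm, rfl⟩ := val_eq a
  obtain ⟨n, hn, rfl⟩ := val_eq b
  simp only [allC, List.all_eq_true, List.mem_range, List.any_eq_true, Bool.and_eq_true] at h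
  obtain ⟨e, -, -, -, h1⟩ := h m hm n hn
  have h2 := ckW_good hw h1
  have e1 : mk9 q (0, 1, 0, 0, 0, 1, 1, (w * n) % q, m) = cpn (m : ZMod q) (n : ZMod q) := by
    ext i j
    fin_cases i <;> fin_cases j <;> simp [mk9, cpn, hw]
  rwa [e1] at h2

theorem good_dgn {q w : ℕ} [Fact q.Prime] (hw : (w : ZMod q) = -1) {x : T9} {T : List (ℕ × ℕ × T9 × T9)}
    (h : allM q w x T = true) (a : ZMod q) (ha : a ≠ 0) : Good (mk9 q x) (dgn a) := by
  obtain ⟨m, hm, rfl⟩ := val_eq a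
  simp only [allM, List.all_eq_true, List.mem_range, List.any_eq_true, Bool.and_eq_true, Bool.or_eq_true] at h
  rcases h m hm with h0 | ⟨e, -, -, h1, h2⟩
  · exfalso
    apply ha
    rw [Nat.eq_of_beq_eq_true h0, Nat.cast_zero]
  · have h3 := ckW_good hw h2
    have h4 : (m : ZMod q) * (e.2.1 : ZMod q) = 1 := by
      have := Nat.eq_of_beq_eq_true h1
      have h5 := cast_eq this
      rwa [Nat.cast_mul, Nat.cast_one] at h5
    have h5 : (e.2.1 : ZMod q) = (m : ZMod q)⁻¹ := eq_inv_of_mul_eq_one_right h4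
    have e1 : mk9 q (0, 1, 0, (w * e.2.1) % q, (m + e.2.1 * e.2.1) % q, 0, 0, 0, m) = dgn (m : ZMod q) := by
      ext i j
      fin_cases i <;> fin_cases j <;> simp [mk9, dgn, hw, h5]
    rwa [e1] at h3

theorem det_cen {q w : ℕ} [Fact q.Prime] (hw : (w : ZMod q) = -1) {x : T9} {T : List (ℕ × T9)}
    (h : allD q w x T = true) (t : ZMod q) (ht : t ≠ 0) :
    ∃ c : Matrix (Fin 3) (Fin 3) (ZMod q), c.det = t ∧ c * mk9 q x = mk9 q x * c := by
  obtain ⟨m, hm, rfl⟩ := val_eq t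
  simp only [allD, List.all_eq_true, List.mem_range, List.any_eq_true, Bool.and_eq_true, Bool.or_eq_true] at h
  rcases h m hm with h0 | ⟨e, -, -, h1, h2⟩
  · exfalso
    apply ht
    rw [Nat.eq_of_beq_eq_true h0, Nat.cast_zero]
  · refine ⟨mk9 q e.2, ?_, ?_⟩
    · rw [← det9_eq hw, Nat.eq_of_beq_eq_true h1]
    · rw [← mk9_mul, eq9_eq h2, mk9_mul]

/-- **`PSL_3(q)`** -/
theorem pp_of {q w r : ℕ} [Fact q.Prime] (hw : (w : ZMod q) = -1) {x : T9} {TC TM : List (ℕ × ℕ × T9 × T9)}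
    {TD : List (ℕ × T9)} {l : List (Bool × T9)} (hC : allC q w x TC = true) (hM : allM q w x TM = true)
    (hD : allD q w x TD = true) (hl : chn q x x l = true) (hr : vl 1 l = r) (hrp : r.Prime) (hr6 : Nat.Coprime r 6)
    (hxd : det9 q w x = 1) (hx1 : (mk9 q x) 1 0 = 1) {F : Type*} [Field F] [Finite F] (hF : Nat.card F = q) :
    Cfsg.Agent.H494.TC.PP (ProjectiveSpecialLinearGroup (Fin 3) F) := by
  have : Fintype F := Fintype.ofFinite F
  let e : F ≃+* ZMod q := (ZMod.ringEquivOfPrime F Fact.out (by rw [← Nat.card_eq_fintype_card, hF])).symm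
  refine Cfsg.Agent.H494.TC.PP.of_equiv (Cfsg.Agent.SporadicA.FieldFour.pslCongr e) ?_
  have hdet : (mk9 q x).det = 1 := by rw [← det9_eq hw, hxd, Nat.cast_one]
  let x₀ : SpecialLinearGroup (Fin 3) (ZMod q) := ⟨mk9 q x, hdet⟩
  have hpow : x₀ ^ r = 1 := by
    apply Subtype.ext
    refine (Matrix.SpecialLinearGroup.coe_pow _ r).trans ?_
    rw [← hr]
    exact chn_pow (pow_one _).symm hl
  have hns : QuotientGroup.mk' (Subgroup.center (SpecialLinearGroup (Fin 3) (ZMod q))) x₀ ≠ 1 := by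
    intro h
    have h1 := (QuotientGroup.eq_one_iff x₀).mp h
    rw [Matrix.SpecialLinearGroup.mem_center_iff] at h1
    obtain ⟨c, -, hc⟩ := h1
    have h2 := congrFun (congrFun hc 1) 0
    have h3 : (x₀ : Matrix (Fin 3) (Fin 3) (ZMod q)) 1 0 = 1 := hx1
    rw [h3] at h2
    simp at h2
  have hord : orderOf (QuotientGroup.mk' (Subgroup.center (SpecialLinearGroup (Fin 3) (ZMod q))) x₀) = r :=
    orderOf_eq_prime (hp := ⟨hrp⟩) (by rw [← map_pow, hpow, map_one]) hns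
  refine ⟨QuotientGroup.mk' _ x₀, by rw [hord]; exact hrp, by rw [hord]; exact hr6, fun g hg => ?_⟩
  obtain ⟨A, rfl⟩ := QuotientGroup.mk'_surjective (Subgroup.center (SpecialLinearGroup (Fin 3) (ZMod q))) g
  have hA : ∀ c : ZMod q, (A : Matrix (Fin 3) (Fin 3) (ZMod q)) ≠ scalar (Fin 3) c := by
    intro c hc
    apply hg
    refine (QuotientGroup.eq_one_iff A).mpr ?_
    rw [Matrix.SpecialLinearGroup.mem_center_iff]
    refine ⟨c, ?_, hc.symm⟩
    have h1 := A.det_coe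
    rw [hc, Matrix.scalar_apply, Matrix.det_diagonal, Finset.prod_const, Finset.card_univ] at h1
    exact h1
  obtain ⟨P, P', Q, Q', hP, hQ, hPd, hQd, e1⟩ := main_of (good_cpn hw hC) (good_dgn hw hM) (det_cen hw hD) A.det_coe hA
  let P₀ : SpecialLinearGroup (Fin 3) (ZMod q) := ⟨P, hPd⟩
  let Q₀ : SpecialLinearGroup (Fin 3) (ZMod q) := ⟨Q, hQd⟩
  have hi : ∀ (R R' : Matrix (Fin 3) (Fin 3) (ZMod q)) (S : SpecialLinearGroup (Fin 3) (ZMod q)),
      S.val = R → R * R' = 1 → R' = (S⁻¹).val := by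
    intro R R' S hS hR
    have h1 : (S⁻¹ * S).val = 1 := by rw [inv_mul_cancel]; rfl
    have h2 : (S⁻¹).val * R = 1 := by rw [← hS]; exact h1
    calc R' = (S⁻¹).val * R * R' := by rw [h2, one_mul]
      _ = _ := by rw [mul_assoc, hR, mul_one]
  have e2 : A = (P₀ * x₀ * P₀⁻¹) * (Q₀ * x₀ * Q₀⁻¹) := by
    apply Subtype.ext
    rw [e1, hi P P' P₀ rfl hP, hi Q Q' Q₀ rfl hQ]
    rfl
  refine ⟨QuotientGroup.mk' _ P₀, QuotientGroup.mk' _ Q₀, ?_⟩
  conv_lhs => rw [e2]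
  rfl

end Cfsg.Agent.H922.TC.L3
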