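import Cfsg.Agent.H922.TC.LThree

/-!
# `PSL_3(q)`, `q = 3, 5, 7, 17`: tables (helper922, S4173, S2464, S2452)
-/

set_option autoImplicit false
set_option maxRecDepth 100000

namespace Cfsg.Agent.H922.TC.L3

open Matrix Cfsg.Agent.H98.Pw

/-! ### `q = 3` -/

/-- an element of order 13 -/
def x3 : T9 := (0, 0, 1, 1, 0, 1, 0, 1, 0)

def C3 : List (ℕ × ℕ × T9 × T9) := [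
  (0, 0, (0, 1, 0, 1, 2, 1, 2, 1, 1), (0, 1, 2, 0, 2, 0, 2, 0, 0)),
  (0, 1, (1, 1, 0, 1, 0, 1, 1, 2, 1), (1, 0, 2, 0, 2, 2, 0, 0, 2)),
  (0, 2, (1, 0, 0, 0, 1, 0, 1, 2, 1), (0, 2, 0, 1, 0, 2, 0, 0, 1)),
  (1, 0, (0, 0, 1, 0, 1, 2, 2, 0, 2), (0, 1, 2, 0, 2, 0, 2, 1, 0)),
  (1, 1, (2, 1, 0, 1, 1, 2, 2, 2, 2), (0, 2, 0, 0, 2, 2, 1, 1, 0)),
  (1, 2, (1, 1, 2, 0, 2, 1, 0, 2, 0), (0, 0, 2, 0, 1, 2, 1, 0, 1)),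
  (2, 0, (0, 2, 0, 0, 1, 1, 2, 1, 2), (0, 2, 1, 0, 1, 1, 1, 1, 0)),
  (2, 1, (2, 1, 1, 0, 2, 1, 2, 2, 1), (0, 2, 1, 0, 2, 0, 1, 2, 2)),
  (2, 2, (1, 2, 1, 1, 1, 1, 0, 0, 2), (0, 2, 2, 1, 0, 1, 0, 0, 1))]

def M3 : List (ℕ × ℕ × T9 × T9) := [
  (1, 1, (0, 0, 1, 1, 0, 1, 2, 1, 2), (1, 2, 0, 0, 2, 0, 0, 1, 2)),
  (2, 2, (0, 0, 2, 1, 0, 1, 2, 2, 0), (0, 0, 2, 0, 1, 1, 1, 2, 1))]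

def D3 : List (ℕ × T9) := [
  (1, (0, 1, 0, 0, 1, 1, 1, 0, 1)),
  (2, (0, 2, 0, 0, 2, 2, 2, 0, 2))]

def L3 : List (Bool × T9) := [
  (true, (1, 0, 1, 1, 1, 1, 0, 1, 1)),
  (false, (1, 1, 2, 2, 2, 0, 1, 2, 2)),
  (true, (1, 0, 0, 0, 1, 0, 0, 0, 1))]

theorem hC3 : allC 3 2 x3 C3 = true := by decide +kernel
theorem hM3 : allM 3 2 x3 M3 = true := by decide +kernel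
theorem hD3 : allD 3 2 x3 D3 = true := by decide +kernel
theorem hL3 : chn 3 x3 x3 L3 = true := by decide +kernel
theorem hw3 : ((2 : ℕ) : ZMod 3) = -1 := by decide +kernel
theorem hx3 : (mk9 3 x3) 1 0 = 1 := by decide +kernel
theorem hd3 : det9 3 2 x3 = 1 := by decide +kernel

/-- **`PSL_3(3)`** -/
theorem pp_3 {F : Type*} [Field F] [Finite F] (hF : Nat.card F = 3) :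
    Cfsg.Agent.H494.TC.PP (ProjectiveSpecialLinearGroup (Fin 3) F) := by
  have : Fact (Nat.Prime 3) := ⟨by norm_num⟩
  exact pp_of (q := 3) (w := 2) (r := 13) hw3 hC3 hM3 hD3 hL3 (by decide +kernel) (by norm_num) (by norm_num)
    hd3 hx3 hF

/-! ### `q = 5` -/

/-- an element of order 31 -/
def x5 : T9 := (0, 0, 1, 1, 0, 4, 0, 1, 0)

def C5 : List (ℕ × ℕ × T9 × T9) := [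
  (0, 0, (3, 0, 3, 2, 3, 1, 0, 0, 4), (0, 3, 1, 0, 2, 3, 3, 0, 3)),
  (0, 1, (2, 0, 0, 3, 2, 1, 1, 4, 1), (0, 1, 0, 1, 4, 3, 0, 0, 4)),
  (0, 2, (0, 2, 1, 4, 0, 3, 1, 0, 0), (0, 0, 2, 1, 1, 4, 0, 3, 0)),
  (0, 3, (1, 1, 2, 3, 2, 2, 0, 0, 4), (2, 4, 1, 0, 0, 3, 0, 4, 4)),
  (0, 4, (1, 3, 0, 0, 1, 3, 4, 3, 4), (1, 4, 0, 0, 3, 3, 0, 3, 0)),
  (1, 0, (4, 0, 3, 4, 0, 0, 1, 3, 0), (1, 3, 0, 2, 3, 2, 0, 4, 2)),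
  (1, 1, (3, 2, 4, 0, 2, 2, 0, 2, 3), (0, 3, 3, 1, 0, 3, 0, 1, 4)),
  (1, 2, (0, 1, 3, 2, 4, 3, 4, 4, 1), (1, 1, 3, 0, 4, 0, 0, 1, 4)),
  (1, 3, (3, 0, 4, 4, 4, 3, 0, 4, 4), (1, 4, 1, 0, 4, 4, 0, 4, 3)),
  (1, 4, (2, 1, 0, 2, 4, 3, 4, 2, 1), (0, 4, 2, 0, 2, 3, 2, 2, 2)),
  (2, 0, (4, 1, 3, 1, 1, 4, 4, 4, 3), (0, 2, 2, 0, 3, 1, 1, 4, 3)),
  (2, 1, (4, 2, 2, 1, 2, 3, 0, 2, 1), (1, 4, 3, 0, 1, 0, 1, 3, 4)),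
  (2, 2, (4, 4, 1, 3, 1, 4, 4, 3, 0), (0, 2, 2, 0, 4, 2, 1, 1, 1)),
  (2, 3, (2, 4, 4, 3, 1, 0, 4, 1, 1), (0, 3, 2, 0, 0, 2, 1, 4, 0)),
  (2, 4, (1, 2, 0, 3, 4, 4, 1, 2, 2), (0, 2, 0, 1, 3, 1, 0, 3, 2)),
  (3, 0, (0, 3, 0, 2, 0, 2, 4, 1, 3), (0, 1, 0, 1, 1, 1, 0, 1, 4)),
  (3, 1, (2, 4, 2, 0, 1, 0, 3, 4, 1), (0, 2, 3, 1, 0, 4, 0, 2, 0)),
  (3, 2, (3, 1, 4, 3, 3, 4, 4, 1, 3), (1, 0, 4, 0, 2, 0, 0, 0, 3)),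
  (3, 3, (1, 0, 4, 1, 0, 2, 0, 3, 1), (2, 4, 0, 0, 4, 3, 0, 0, 2)),
  (3, 4, (4, 2, 4, 4, 4, 1, 1, 0, 0), (0, 4, 4, 0, 2, 1, 1, 0, 0)),
  (4, 0, (1, 1, 3, 2, 0, 3, 4, 0, 3), (1, 4, 1, 1, 4, 4, 1, 2, 3)),
  (4, 1, (1, 0, 1, 1, 3, 2, 0, 1, 4), (0, 3, 0, 0, 0, 2, 1, 2, 2)),
  (4, 2, (4, 3, 4, 1, 0, 0, 3, 0, 3), (0, 1, 2, 0, 4, 1, 2, 3, 2)),
  (4, 3, (0, 4, 1, 2, 0, 3, 4, 2, 2), (1, 0, 2, 0, 4, 3, 0, 4, 2)),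
  (4, 4, (1, 2, 4, 3, 4, 1, 3, 3, 0), (0, 2, 2, 0, 0, 3, 1, 4, 1))]

def M5 : List (ℕ × ℕ × T9 × T9) := [
  (1, 1, (1, 2, 4, 1, 1, 4, 1, 4, 3), (0, 3, 4, 0, 4, 4, 1, 2, 3)),
  (2, 3, (2, 0, 3, 1, 2, 1, 1, 0, 3), (0, 4, 2, 0, 4, 1, 1, 4, 0)),
  (3, 2, (4, 4, 1, 1, 4, 2, 0, 4, 2), (0, 0, 1, 0, 4, 4, 1, 3, 2)),
  (4, 4, (1, 4, 2, 3, 0, 2, 2, 3, 1), (0, 4, 4, 1, 3, 1, 0, 1, 2))]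

def D5 : List (ℕ × T9) := [
  (1, (0, 1, 0, 0, 4, 1, 1, 0, 4)),
  (2, (0, 3, 0, 0, 2, 3, 3, 0, 2)),
  (3, (0, 2, 0, 0, 3, 2, 2, 0, 3)),
  (4, (0, 4, 0, 0, 1, 4, 4, 0, 1))]

def L5 : List (Bool × T9) := [
  (true, (1, 0, 4, 4, 1, 1, 0, 4, 1)),
  (true, (1, 3, 0, 0, 3, 3, 3, 0, 3)),
  (true, (2, 4, 4, 4, 3, 0, 4, 4, 3)),
  (true, (1, 0, 0, 0, 1, 0, 0, 0, 1))]

theorem hC5 : allC 5 4 x5 C5 = true := by decide +kernel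
theorem hM5 : allM 5 4 x5 M5 = true := by decide +kernel
theorem hD5 : allD 5 4 x5 D5 = true := by decide +kernel
theorem hL5 : chn 5 x5 x5 L5 = true := by decide +kernel
theorem hw5 : ((4 : ℕ) : ZMod 5) = -1 := by decide +kernel
theorem hx5 : (mk9 5 x5) 1 0 = 1 := by decide +kernel
theorem hd5 : det9 5 4 x5 = 1 := by decide +kernel

/-- **`PSL_3(5)`** -/
theorem pp_5 {F : Type*} [Field F] [Finite F] (hF : Nat.card F = 5) :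
    Cfsg.Agent.H494.TC.PP (ProjectiveSpecialLinearGroup (Fin 3) F) := by
  have : Fact (Nat.Prime 5) := ⟨by norm_num⟩
  exact pp_of (q := 5) (w := 4) (r := 31) hw5 hC5 hM5 hD5 hL5 (by decide +kernel) (by norm_num) (by norm_num)
    hd5 hx5 hF

/-! ### `q = 7` -/

/-- an element of order 19 -/
def x7 : T9 := (0, 0, 1, 1, 0, 5, 0, 1, 0)

def C7 : List (ℕ × ℕ × T9 × T9) := [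
  (0, 0, (0, 5, 6, 6, 3, 4, 1, 3, 2), (1, 2, 1, 0, 4, 3, 0, 3, 6)),
  (0, 1, (2, 1, 2, 0, 0, 3, 3, 6, 6), (0, 2, 3, 1, 0, 2, 0, 3, 4)),
  (0, 2, (3, 4, 3, 0, 5, 0, 1, 1, 2), (3, 2, 3, 0, 6, 4, 1, 3, 3)),
  (0, 3, (5, 0, 3, 2, 4, 1, 3, 4, 2), (0, 0, 2, 0, 3, 5, 1, 5, 6)),
  (0, 4, (6, 6, 5, 4, 5, 0, 6, 0, 3), (0, 6, 4, 0, 2, 5, 1, 1, 5)),
  (0, 5, (4, 0, 6, 1, 2, 5, 2, 1, 4), (1, 2, 6, 0, 5, 0, 1, 6, 2)),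
  (0, 6, (2, 6, 5, 6, 2, 1, 1, 1, 4), (1, 2, 6, 0, 6, 1, 1, 5, 2)),
  (1, 0, (2, 1, 2, 6, 3, 0, 4, 5, 3), (0, 6, 1, 1, 1, 2, 2, 5, 2)),
  (1, 1, (1, 3, 5, 2, 0, 0, 1, 0, 1), (1, 0, 3, 0, 6, 3, 2, 4, 0)),
  (1, 2, (1, 5, 3, 3, 0, 0, 6, 1, 1), (1, 1, 6, 1, 6, 4, 0, 2, 5)),
  (1, 3, (0, 5, 3, 5, 6, 2, 0, 0, 5), (0, 0, 4, 0, 5, 3, 1, 3, 1)),
  (1, 4, (4, 1, 0, 5, 1, 5, 1, 2, 6), (0, 5, 5, 2, 0, 1, 1, 3, 2)),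
  (1, 5, (4, 1, 0, 6, 6, 2, 2, 6, 6), (0, 1, 6, 1, 4, 0, 1, 1, 2)),
  (1, 6, (1, 5, 4, 1, 0, 5, 4, 6, 6), (0, 2, 3, 1, 6, 5, 0, 2, 6)),
  (2, 0, (6, 0, 6, 5, 3, 6, 3, 5, 2), (0, 1, 5, 1, 5, 6, 0, 3, 0)),
  (2, 1, (3, 5, 2, 1, 1, 1, 1, 2, 0), (0, 2, 0, 1, 4, 0, 0, 5, 3)),
  (2, 2, (6, 6, 6, 1, 3, 3, 3, 6, 2), (0, 1, 3, 0, 3, 3, 1, 5, 0)),
  (2, 3, (3, 4, 3, 0, 0, 5, 1, 5, 6), (0, 1, 6, 0, 1, 0, 1, 3, 0)),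
  (2, 4, (1, 3, 6, 0, 6, 2, 5, 3, 4), (1, 0, 6, 0, 4, 5, 0, 1, 5)),
  (2, 5, (6, 6, 4, 2, 3, 0, 0, 3, 2), (0, 4, 4, 1, 4, 1, 1, 1, 3)),
  (2, 6, (5, 3, 2, 2, 4, 2, 4, 2, 3), (0, 6, 3, 3, 3, 6, 0, 1, 2)),
  (3, 0, (6, 1, 3, 5, 5, 0, 1, 2, 0), (1, 0, 2, 1, 5, 6, 0, 3, 4)),
  (3, 1, (2, 5, 4, 4, 3, 2, 1, 2, 5), (0, 4, 1, 3, 5, 4, 0, 3, 3)),
  (3, 2, (6, 6, 3, 5, 2, 2, 3, 2, 4), (0, 3, 0, 1, 6, 3, 1, 0, 5)),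
  (3, 3, (6, 6, 3, 0, 2, 1, 6, 2, 4), (1, 2, 2, 0, 4, 2, 2, 5, 3)),
  (3, 4, (1, 0, 6, 6, 4, 3, 2, 4, 2), (0, 6, 6, 0, 0, 6, 1, 6, 0)),
  (3, 5, (1, 1, 5, 3, 1, 1, 3, 6, 4), (1, 6, 6, 0, 5, 6, 1, 1, 3)),
  (3, 6, (0, 6, 5, 5, 3, 3, 0, 6, 1), (0, 6, 0, 1, 2, 1, 1, 6, 2)),
  (4, 0, (4, 2, 4, 3, 3, 5, 4, 4, 1), (0, 4, 3, 1, 4, 6, 0, 6, 6)),
  (4, 1, (4, 5, 0, 2, 4, 0, 0, 3, 6), (0, 0, 6, 0, 5, 4, 3, 2, 5)),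
  (4, 2, (1, 2, 4, 3, 2, 6, 1, 2, 2), (1, 1, 0, 1, 1, 5, 0, 4, 4)),
  (4, 3, (4, 2, 0, 0, 1, 3, 2, 5, 0), (0, 2, 4, 1, 1, 3, 1, 1, 6)),
  (4, 4, (5, 6, 2, 5, 0, 5, 6, 1, 5), (0, 2, 1, 1, 4, 3, 0, 0, 3)),
  (4, 5, (4, 3, 3, 6, 5, 0, 2, 1, 3), (1, 6, 4, 0, 6, 2, 2, 6, 5)),
  (4, 6, (6, 3, 4, 3, 3, 4, 4, 3, 1), (0, 5, 3, 0, 6, 1, 1, 2, 0)),
  (5, 0, (6, 6, 0, 4, 6, 4, 6, 1, 0), (0, 2, 4, 1, 3, 0, 0, 1, 5)),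
  (5, 1, (4, 1, 3, 0, 1, 1, 3, 4, 4), (0, 3, 6, 0, 5, 1, 1, 4, 5)),
  (5, 2, (2, 2, 5, 5, 4, 1, 3, 2, 6), (1, 2, 5, 0, 6, 3, 1, 3, 1)),
  (5, 3, (3, 1, 2, 5, 2, 1, 0, 6, 1), (0, 4, 2, 0, 3, 1, 3, 6, 0)),
  (5, 4, (5, 6, 2, 4, 3, 6, 6, 0, 2), (1, 6, 1, 0, 5, 4, 1, 1, 0)),
  (5, 5, (2, 2, 5, 5, 4, 3, 3, 3, 0), (0, 2, 4, 0, 2, 1, 1, 6, 5)),
  (5, 6, (4, 4, 4, 1, 3, 3, 5, 3, 4), (0, 3, 1, 0, 3, 6, 1, 1, 4)),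
  (6, 0, (4, 3, 5, 2, 5, 5, 6, 3, 6), (0, 6, 2, 1, 2, 3, 0, 5, 5)),
  (6, 1, (6, 4, 6, 4, 5, 3, 4, 4, 1), (0, 4, 1, 0, 2, 6, 1, 4, 3)),
  (6, 2, (0, 1, 1, 1, 3, 5, 6, 0, 4), (1, 1, 6, 0, 5, 4, 0, 3, 4)),
  (6, 3, (2, 2, 0, 2, 6, 5, 4, 5, 4), (0, 0, 2, 0, 3, 4, 1, 2, 5)),
  (6, 4, (3, 5, 3, 2, 5, 1, 1, 3, 6), (1, 3, 2, 2, 5, 6, 0, 3, 0)),
  (6, 5, (2, 2, 0, 6, 4, 0, 4, 2, 5), (0, 2, 5, 2, 3, 4, 1, 4, 1)),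
  (6, 6, (5, 4, 3, 4, 4, 6, 5, 4, 5), (1, 3, 0, 1, 1, 4, 1, 3, 3))]

def M7 : List (ℕ × ℕ × T9 × T9) := [
  (1, 1, (4, 3, 2, 0, 1, 1, 6, 4, 1), (1, 3, 5, 0, 5, 2, 1, 1, 3)),
  (2, 4, (6, 2, 6, 5, 6, 0, 5, 6, 3), (0, 1, 3, 1, 0, 4, 0, 1, 2)),
  (3, 5, (1, 1, 5, 1, 2, 0, 1, 5, 0), (0, 0, 2, 1, 2, 2, 1, 6, 4)),
  (4, 2, (1, 2, 6, 0, 0, 4, 6, 3, 2), (1, 6, 4, 3, 3, 2, 0, 3, 1)),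
  (5, 3, (4, 2, 2, 6, 6, 3, 1, 3, 0), (1, 4, 3, 0, 3, 4, 1, 5, 0)),
  (6, 6, (1, 4, 0, 0, 0, 6, 5, 0, 1), (1, 3, 2, 0, 0, 5, 1, 0, 2))]

def D7 : List (ℕ × T9) := [
  (1, (0, 1, 0, 0, 5, 1, 1, 0, 5)),
  (2, (0, 6, 1, 1, 2, 4, 6, 1, 2)),
  (3, (0, 2, 1, 1, 3, 0, 2, 1, 3)),
  (4, (0, 1, 1, 1, 5, 6, 1, 1, 5)),
  (5, (0, 4, 3, 3, 6, 5, 4, 3, 6)),
  (6, (0, 3, 0, 0, 1, 3, 3, 0, 1))]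

def L7 : List (Bool × T9) := [
  (false, (0, 1, 0, 0, 5, 1, 1, 0, 5)),
  (false, (0, 5, 1, 1, 4, 3, 5, 1, 4)),
  (true, (0, 5, 3, 3, 4, 6, 5, 3, 4)),
  (true, (1, 0, 0, 0, 1, 0, 0, 0, 1))]

theorem hC7 : allC 7 6 x7 C7 = true := by decide +kernel
theorem hM7 : allM 7 6 x7 M7 = true := by decide +kernel
theorem hD7 : allD 7 6 x7 D7 = true := by decide +kernel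
theorem hL7 : chn 7 x7 x7 L7 = true := by decide +kernel
theorem hw7 : ((6 : ℕ) : ZMod 7) = -1 := by decide +kernel
theorem hx7 : (mk9 7 x7) 1 0 = 1 := by decide +kernel
theorem hd7 : det9 7 6 x7 = 1 := by decide +kernel

/-- **`PSL_3(7)`** -/
theorem pp_7 {F : Type*} [Field F] [Finite F] (hF : Nat.card F = 7) :
    Cfsg.Agent.H494.TC.PP (ProjectiveSpecialLinearGroup (Fin 3) F) := by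
  have : Fact (Nat.Prime 7) := ⟨by norm_num⟩
  exact pp_of (q := 7) (w := 6) (r := 19) hw7 hC7 hM7 hD7 hL7 (by decide +kernel) (by norm_num) (by norm_num)
    hd7 hx7 hF

/-! ### `q = 17` -/

/-- an element of order 307 -/
def x17 : T9 := (0, 0, 1, 1, 0, 14, 0, 1, 0)

def C17 : List (ℕ × ℕ × T9 × T9) := [
  (0, 0, (4, 6, 10, 14, 9, 5, 6, 4, 0), (1, 9, 13, 1, 0, 2, 0, 7, 16)),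
  (0, 1, (9, 4, 14, 6, 14, 9, 4, 4, 7), (0, 4, 9, 2, 2, 7, 0, 16, 4)),
  (0, 2, (2, 13, 1, 0, 16, 11, 4, 9, 10), (1, 3, 14, 1, 16, 13, 0, 5, 1)),
  (0, 3, (10, 4, 10, 10, 0, 15, 13, 6, 9), (1, 6, 10, 0, 7, 9, 0, 1, 16)),
  (0, 4, (6, 11, 1, 12, 3, 16, 4, 3, 4), (0, 6, 8, 2, 12, 6, 0, 12, 6)),
  (0, 5, (16, 0, 11, 6, 16, 4, 5, 11, 9), (2, 2, 7, 0, 13, 11, 0, 9, 7)),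
  (0, 6, (14, 14, 8, 14, 16, 8, 10, 15, 10), (3, 0, 0, 0, 15, 1, 0, 3, 4)),
  (0, 7, (6, 11, 8, 16, 2, 15, 15, 12, 5), (0, 9, 13, 2, 0, 10, 0, 10, 4)),
  (0, 8, (12, 16, 8, 3, 5, 5, 1, 14, 9), (2, 4, 9, 0, 7, 2, 2, 4, 3)),
  (0, 9, (14, 1, 2, 0, 7, 11, 14, 0, 2), (1, 14, 11, 0, 15, 11, 1, 4, 6)),
  (0, 10, (15, 10, 13, 15, 6, 12, 12, 3, 8), (0, 7, 3, 0, 12, 6, 3, 2, 8)),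
  (0, 11, (16, 13, 1, 6, 10, 15, 6, 6, 15), (2, 2, 0, 0, 11, 8, 1, 5, 13)),
  (0, 12, (5, 12, 11, 2, 14, 2, 7, 0, 15), (0, 7, 16, 0, 4, 2, 1, 0, 16)),
  (0, 13, (5, 14, 12, 7, 2, 10, 7, 0, 4), (2, 8, 13, 0, 7, 8, 1, 8, 16)),
  (0, 14, (4, 2, 15, 15, 10, 6, 2, 2, 13), (0, 11, 6, 1, 6, 16, 4, 11, 12)),
  (0, 15, (11, 9, 13, 3, 6, 6, 0, 10, 10), (1, 3, 5, 1, 13, 8, 0, 2, 16)),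
  (0, 16, (16, 2, 7, 15, 7, 2, 11, 14, 11), (0, 6, 0, 3, 13, 2, 1, 13, 11)),
  (1, 0, (14, 2, 5, 2, 6, 14, 0, 0, 10), (2, 2, 8, 0, 16, 1, 1, 12, 1)),
  (1, 1, (12, 11, 8, 11, 10, 1, 10, 1, 14), (0, 2, 6, 1, 15, 12, 0, 13, 13)),
  (1, 2, (7, 11, 1, 2, 8, 14, 10, 9, 2), (0, 11, 0, 0, 13, 14, 1, 2, 8)),
  (1, 3, (10, 4, 11, 9, 7, 3, 8, 11, 16), (0, 5, 9, 0, 7, 6, 1, 1, 4)),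
  (1, 4, (2, 13, 0, 0, 15, 7, 16, 13, 8), (0, 8, 14, 3, 16, 14, 1, 1, 2)),
  (1, 5, (2, 4, 15, 9, 4, 9, 4, 15, 7), (1, 12, 6, 0, 10, 1, 1, 0, 10)),
  (1, 6, (8, 8, 9, 1, 1, 14, 12, 11, 13), (2, 15, 15, 1, 5, 2, 0, 11, 7)),
  (1, 7, (7, 11, 16, 13, 0, 12, 15, 1, 9), (2, 3, 10, 0, 2, 2, 1, 6, 14)),
  (1, 8, (8, 10, 5, 5, 14, 4, 4, 15, 2), (0, 12, 5, 2, 11, 2, 1, 2, 8)),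
  (1, 9, (4, 14, 8, 12, 3, 16, 16, 12, 10), (0, 10, 11, 1, 12, 11, 4, 8, 5)),
  (1, 10, (14, 6, 1, 9, 1, 11, 1, 12, 4), (5, 7, 0, 0, 15, 15, 0, 0, 5)),
  (1, 11, (0, 6, 5, 16, 4, 15, 8, 7, 9), (1, 0, 0, 1, 1, 3, 2, 14, 9)),
  (1, 12, (0, 6, 15, 10, 4, 2, 15, 1, 14), (1, 14, 2, 1, 13, 10, 0, 14, 6)),
  (1, 13, (13, 16, 6, 3, 3, 1, 8, 9, 5), (0, 6, 9, 4, 3, 14, 0, 16, 2)),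
  (1, 14, (14, 8, 14, 0, 1, 16, 11, 11, 10), (0, 15, 15, 1, 8, 16, 0, 5, 14)),
  (1, 15, (14, 1, 10, 13, 11, 6, 0, 2, 9), (1, 15, 4, 0, 10, 5, 1, 10, 5)),
  (1, 16, (13, 0, 14, 1, 13, 4, 6, 14, 7), (0, 16, 9, 0, 0, 16, 1, 16, 16)),
  (2, 0, (3, 15, 6, 8, 16, 1, 9, 13, 2), (0, 2, 7, 3, 14, 1, 3, 9, 6)),
  (2, 1, (16, 16, 7, 8, 8, 11, 16, 15, 0), (1, 5, 13, 1, 6, 11, 0, 12, 11)),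
  (2, 2, (10, 12, 3, 8, 14, 0, 16, 13, 14), (0, 10, 7, 1, 12, 3, 0, 9, 13)),
  (2, 3, (10, 0, 16, 0, 0, 12, 14, 16, 8), (0, 3, 10, 3, 7, 9, 0, 6, 1)),
  (2, 4, (3, 16, 8, 12, 10, 14, 6, 3, 10), (0, 8, 3, 2, 8, 15, 1, 5, 11)),
  (2, 5, (2, 6, 5, 6, 2, 8, 14, 4, 4), (1, 10, 5, 0, 6, 8, 2, 2, 6)),
  (2, 6, (0, 15, 4, 13, 10, 0, 1, 6, 2), (0, 7, 10, 1, 14, 0, 1, 13, 13)),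
  (2, 7, (13, 3, 9, 9, 6, 5, 16, 4, 11), (0, 16, 13, 1, 16, 15, 0, 12, 15)),
  (2, 8, (1, 11, 0, 11, 12, 15, 6, 2, 1), (0, 16, 0, 0, 4, 16, 1, 3, 6)),
  (2, 9, (1, 4, 11, 15, 12, 0, 8, 7, 7), (2, 7, 15, 0, 10, 0, 0, 6, 6)),
  (2, 10, (13, 3, 2, 12, 6, 3, 16, 7, 15), (0, 7, 16, 1, 13, 3, 3, 13, 15)),
  (2, 11, (16, 4, 4, 4, 14, 12, 9, 4, 3), (2, 12, 7, 1, 4, 10, 0, 9, 13)),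
  (2, 12, (16, 5, 11, 1, 4, 8, 16, 5, 9), (3, 1, 14, 0, 4, 1, 0, 8, 12)),
  (2, 13, (1, 1, 1, 12, 10, 16, 13, 12, 6), (1, 1, 5, 0, 6, 10, 0, 7, 9)),
  (2, 14, (5, 7, 2, 2, 5, 3, 7, 14, 4), (3, 12, 16, 1, 7, 8, 0, 8, 11)),
  (2, 15, (7, 6, 6, 8, 0, 15, 11, 10, 2), (0, 16, 8, 0, 15, 7, 2, 6, 15)),
  (2, 16, (10, 10, 1, 6, 14, 6, 6, 10, 15), (0, 5, 5, 1, 4, 9, 2, 9, 12)),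
  (3, 0, (13, 6, 4, 13, 1, 10, 11, 7, 11), (1, 14, 14, 1, 6, 16, 0, 10, 8)),
  (3, 1, (11, 11, 4, 3, 0, 15, 5, 11, 9), (0, 0, 2, 0, 4, 16, 2, 5, 0)),
  (3, 2, (11, 4, 9, 7, 16, 7, 0, 6, 0), (0, 5, 6, 3, 4, 4, 0, 1, 0)),
  (3, 3, (7, 0, 10, 15, 4, 10, 10, 4, 12), (3, 6, 14, 0, 5, 2, 1, 13, 8)),
  (3, 4, (5, 4, 10, 14, 5, 7, 8, 13, 12), (0, 5, 16, 0, 0, 12, 2, 12, 14)),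
  (3, 5, (14, 3, 10, 7, 16, 13, 2, 1, 2), (0, 11, 16, 0, 3, 16, 2, 11, 7)),
  (3, 6, (12, 16, 3, 13, 14, 7, 7, 11, 16), (2, 4, 7, 3, 13, 7, 0, 12, 5)),
  (3, 7, (15, 11, 15, 12, 9, 15, 12, 13, 13), (2, 10, 11, 0, 6, 5, 1, 5, 7)),
  (3, 8, (9, 2, 1, 16, 3, 16, 0, 6, 6), (0, 6, 6, 0, 12, 0, 4, 16, 11)),
  (3, 9, (10, 7, 8, 2, 4, 2, 8, 3, 8), (0, 1, 14, 3, 10, 1, 0, 14, 3)),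
  (3, 10, (6, 12, 16, 5, 7, 6, 13, 10, 4), (0, 3, 16, 0, 8, 13, 4, 14, 5)),
  (3, 11, (3, 2, 1, 15, 0, 2, 7, 0, 6), (0, 10, 12, 1, 0, 3, 2, 6, 8)),
  (3, 12, (2, 4, 4, 13, 8, 6, 11, 1, 1), (0, 1, 16, 0, 2, 7, 2, 3, 16)),
  (3, 13, (16, 6, 11, 2, 12, 0, 4, 9, 11), (0, 2, 4, 2, 7, 16, 2, 13, 15)),
  (3, 14, (3, 2, 12, 8, 13, 16, 7, 5, 0), (1, 15, 6, 2, 14, 3, 0, 1, 9)),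
  (3, 15, (0, 2, 2, 0, 15, 9, 7, 1, 2), (0, 12, 9, 0, 16, 6, 4, 10, 16)),
  (3, 16, (8, 11, 13, 16, 12, 3, 5, 16, 7), (0, 16, 2, 3, 5, 3, 0, 9, 5)),
  (4, 0, (5, 4, 8, 7, 6, 12, 3, 12, 16), (0, 8, 15, 2, 11, 16, 0, 3, 13)),
  (4, 1, (9, 8, 9, 8, 16, 3, 16, 1, 9), (1, 11, 9, 0, 9, 0, 2, 5, 3)),
  (4, 2, (5, 11, 6, 2, 4, 16, 16, 14, 0), (3, 13, 2, 1, 0, 14, 0, 6, 5)),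
  (4, 3, (3, 10, 10, 9, 15, 6, 10, 4, 3), (2, 13, 9, 0, 2, 9, 1, 16, 5)),
  (4, 4, (15, 14, 7, 11, 2, 9, 10, 10, 16), (0, 7, 13, 0, 9, 8, 5, 1, 2)),
  (4, 5, (5, 16, 12, 12, 9, 13, 5, 9, 8), (0, 3, 7, 1, 15, 6, 0, 14, 4)),
  (4, 6, (9, 5, 6, 15, 4, 3, 4, 7, 6), (0, 4, 3, 1, 10, 2, 0, 1, 9)),
  (4, 7, (1, 10, 13, 10, 9, 11, 8, 4, 16), (1, 2, 7, 0, 4, 12, 3, 10, 12)),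
  (4, 8, (15, 15, 4, 0, 1, 11, 7, 5, 6), (2, 5, 9, 1, 9, 3, 0, 13, 1)),
  (4, 9, (4, 14, 13, 12, 0, 12, 6, 11, 16), (1, 2, 14, 0, 2, 7, 2, 10, 7)),
  (4, 10, (5, 4, 12, 2, 1, 14, 1, 7, 9), (0, 1, 16, 1, 14, 3, 0, 2, 14)),
  (4, 11, (9, 10, 14, 1, 10, 6, 15, 13, 6), (1, 10, 12, 0, 14, 3, 2, 2, 2)),
  (4, 12, (2, 9, 13, 1, 14, 15, 6, 8, 14), (0, 1, 10, 1, 6, 4, 1, 3, 7)),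
  (4, 13, (9, 0, 3, 0, 1, 8, 13, 10, 7), (1, 3, 7, 1, 13, 16, 1, 0, 1)),
  (4, 14, (8, 4, 1, 6, 4, 5, 7, 12, 1), (0, 15, 4, 0, 5, 15, 1, 3, 13)),
  (4, 15, (15, 11, 6, 14, 14, 0, 13, 4, 12), (1, 4, 6, 2, 12, 16, 0, 14, 10)),
  (4, 16, (13, 15, 3, 6, 4, 9, 10, 10, 13), (0, 4, 10, 1, 14, 15, 3, 2, 0)),
  (5, 0, (14, 14, 5, 12, 7, 5, 1, 1, 12), (1, 16, 5, 1, 3, 14, 2, 5, 9)),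
  (5, 1, (3, 14, 0, 8, 15, 4, 3, 5, 12), (0, 14, 6, 1, 9, 6, 1, 9, 12)),
  (5, 2, (13, 3, 8, 14, 5, 3, 9, 14, 1), (0, 4, 5, 1, 16, 12, 3, 2, 8)),
  (5, 3, (14, 13, 6, 2, 12, 0, 7, 1, 0), (0, 5, 11, 3, 4, 1, 0, 6, 12)),
  (5, 4, (7, 5, 10, 7, 12, 4, 11, 11, 12), (0, 6, 16, 2, 6, 7, 1, 4, 16)),
  (5, 5, (14, 13, 15, 4, 14, 6, 15, 2, 5), (1, 2, 16, 1, 12, 0, 1, 1, 16)),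
  (5, 6, (6, 11, 2, 3, 4, 14, 4, 11, 11), (1, 11, 1, 1, 0, 1, 0, 14, 3)),
  (5, 7, (10, 7, 3, 11, 12, 10, 10, 5, 9), (1, 16, 16, 0, 1, 14, 2, 12, 8)),
  (5, 8, (3, 6, 6, 16, 4, 1, 4, 5, 16), (1, 15, 5, 0, 15, 7, 0, 9, 2)),
  (5, 9, (4, 4, 16, 16, 12, 6, 4, 2, 5), (0, 11, 14, 0, 4, 1, 3, 6, 14)),
  (5, 10, (10, 7, 16, 12, 4, 14, 7, 0, 5), (1, 12, 6, 1, 15, 8, 0, 9, 12)),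
  (5, 11, (8, 12, 1, 9, 14, 0, 8, 2, 11), (1, 13, 15, 0, 12, 13, 1, 12, 14)),
  (5, 12, (12, 11, 0, 10, 14, 14, 0, 13, 11), (0, 4, 15, 2, 12, 8, 1, 0, 9)),
  (5, 13, (13, 15, 7, 14, 5, 0, 7, 5, 12), (1, 4, 12, 1, 2, 9, 0, 7, 10)),
  (5, 14, (13, 5, 9, 15, 15, 13, 11, 3, 6), (0, 11, 2, 0, 10, 3, 4, 3, 3)),
  (5, 15, (5, 6, 16, 7, 6, 3, 14, 4, 5), (2, 2, 13, 0, 3, 9, 0, 14, 11)),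
  (5, 16, (4, 12, 4, 15, 15, 15, 6, 1, 5), (0, 6, 14, 1, 10, 9, 2, 16, 0)),
  (6, 0, (1, 8, 10, 15, 3, 11, 5, 0, 0), (1, 15, 4, 0, 11, 6, 2, 6, 12)),
  (6, 1, (9, 5, 8, 13, 6, 0, 9, 4, 0), (0, 14, 3, 0, 7, 7, 2, 8, 4)),
  (6, 2, (15, 10, 4, 15, 11, 3, 7, 7, 3), (0, 14, 1, 2, 3, 2, 1, 2, 1)),
  (6, 3, (5, 1, 5, 15, 3, 12, 9, 3, 4), (0, 11, 13, 0, 2, 3, 5, 16, 7)),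
  (6, 4, (6, 14, 14, 12, 5, 10, 16, 9, 0), (1, 12, 13, 2, 10, 15, 4, 6, 8)),
  (6, 5, (11, 13, 8, 7, 11, 13, 4, 10, 12), (0, 0, 16, 1, 12, 5, 0, 16, 0)),
  (6, 6, (14, 7, 2, 14, 11, 16, 13, 2, 1), (0, 11, 7, 0, 15, 15, 2, 0, 0)),
  (6, 7, (3, 10, 0, 1, 14, 6, 12, 0, 11), (0, 11, 16, 0, 15, 8, 1, 4, 12)),
  (6, 8, (11, 9, 10, 2, 4, 2, 16, 3, 4), (0, 10, 4, 3, 16, 14, 0, 16, 16)),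
  (6, 9, (6, 15, 9, 11, 10, 11, 16, 14, 4), (3, 6, 1, 0, 2, 3, 0, 0, 3)),
  (6, 10, (0, 1, 1, 14, 11, 9, 3, 8, 16), (0, 9, 16, 3, 9, 16, 0, 14, 11)),
  (6, 11, (4, 10, 0, 12, 8, 15, 13, 14, 7), (0, 1, 10, 1, 15, 8, 0, 1, 9)),
  (6, 12, (6, 8, 3, 5, 3, 11, 4, 1, 12), (2, 8, 3, 0, 15, 12, 0, 8, 7)),
  (6, 13, (14, 7, 3, 5, 16, 5, 9, 8, 7), (1, 2, 1, 0, 7, 4, 0, 14, 13)),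
  (6, 14, (14, 0, 3, 8, 11, 2, 14, 0, 4), (1, 6, 14, 0, 5, 8, 0, 7, 8)),
  (6, 15, (16, 14, 6, 15, 13, 5, 4, 2, 2), (0, 0, 14, 3, 14, 5, 0, 15, 12)),
  (6, 16, (2, 12, 2, 9, 9, 16, 10, 1, 5), (0, 8, 15, 2, 11, 10, 1, 8, 16)),
  (7, 0, (11, 12, 13, 14, 13, 1, 12, 3, 7), (2, 13, 6, 1, 0, 14, 2, 10, 11)),
  (7, 1, (10, 0, 16, 8, 15, 8, 14, 6, 7), (1, 2, 3, 1, 4, 7, 1, 15, 4)),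
  (7, 2, (11, 11, 9, 15, 4, 12, 5, 13, 4), (0, 7, 6, 2, 5, 14, 0, 2, 15)),
  (7, 3, (13, 15, 6, 5, 12, 9, 5, 3, 9), (0, 9, 5, 0, 9, 7, 1, 5, 9)),
  (7, 4, (9, 6, 15, 16, 3, 13, 15, 14, 6), (0, 8, 5, 2, 10, 14, 0, 15, 4)),
  (7, 5, (6, 1, 15, 13, 4, 13, 1, 4, 2), (0, 3, 14, 4, 3, 2, 0, 7, 0)),
  (7, 6, (0, 9, 3, 13, 5, 4, 5, 6, 1), (0, 15, 5, 1, 16, 5, 1, 13, 13)),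
  (7, 7, (12, 14, 3, 0, 6, 0, 12, 15, 16), (1, 10, 10, 0, 1, 4, 1, 13, 6)),
  (7, 8, (15, 6, 15, 16, 15, 15, 8, 13, 7), (0, 11, 5, 0, 4, 16, 6, 7, 5)),
  (7, 9, (8, 16, 14, 5, 9, 5, 15, 16, 14), (2, 9, 14, 0, 16, 11, 0, 10, 0)),
  (7, 10, (0, 0, 4, 4, 6, 12, 12, 0, 4), (1, 8, 7, 1, 11, 11, 0, 7, 4)),
  (7, 11, (4, 10, 3, 3, 0, 1, 14, 0, 12), (0, 16, 0, 1, 12, 3, 0, 3, 1)),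
  (7, 12, (1, 10, 6, 12, 15, 1, 10, 13, 1), (1, 5, 2, 0, 9, 8, 2, 8, 8)),
  (7, 13, (16, 1, 12, 2, 14, 2, 9, 8, 12), (1, 10, 4, 1, 1, 11, 0, 14, 6)),
  (7, 14, (6, 2, 7, 12, 9, 5, 14, 12, 6), (0, 6, 6, 0, 14, 0, 1, 3, 3)),
  (7, 15, (3, 14, 1, 7, 3, 2, 10, 9, 5), (1, 12, 15, 1, 6, 7, 1, 1, 3)),
  (7, 16, (2, 0, 16, 12, 3, 13, 2, 10, 3), (0, 13, 1, 0, 16, 15, 2, 14, 12)),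
  (8, 0, (5, 3, 5, 0, 3, 7, 6, 16, 1), (1, 15, 14, 2, 12, 15, 1, 4, 6)),
  (8, 1, (11, 1, 11, 12, 13, 7, 9, 16, 16), (0, 2, 8, 1, 2, 8, 0, 12, 5)),
  (8, 2, (11, 6, 5, 2, 0, 16, 5, 16, 7), (0, 4, 9, 3, 2, 16, 1, 0, 8)),
  (8, 3, (11, 14, 7, 12, 3, 1, 11, 15, 3), (1, 0, 13, 1, 3, 14, 1, 14, 1)),
  (8, 4, (13, 3, 10, 13, 10, 6, 10, 14, 7), (0, 2, 9, 0, 3, 1, 2, 0, 15)),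
  (8, 5, (7, 13, 12, 6, 4, 15, 0, 9, 9), (1, 13, 10, 1, 12, 9, 0, 13, 12)),
  (8, 6, (11, 6, 15, 8, 0, 0, 14, 12, 2), (2, 2, 0, 1, 1, 6, 1, 8, 0)),
  (8, 7, (5, 5, 14, 13, 5, 15, 7, 15, 4), (0, 5, 14, 1, 14, 0, 0, 12, 13)),
  (8, 8, (11, 11, 1, 9, 2, 2, 4, 6, 2), (0, 15, 15, 5, 5, 0, 0, 1, 13)),
  (8, 9, (1, 12, 13, 0, 16, 8, 1, 11, 3), (0, 8, 1, 0, 8, 9, 4, 10, 15)),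
  (8, 10, (16, 5, 16, 12, 9, 3, 6, 3, 14), (0, 3, 15, 0, 5, 10, 3, 9, 8)),
  (8, 11, (5, 16, 9, 16, 1, 16, 11, 4, 5), (0, 10, 5, 1, 8, 11, 0, 9, 1)),
  (8, 12, (7, 15, 13, 15, 13, 10, 1, 15, 16), (3, 4, 7, 1, 11, 4, 0, 7, 3)),
  (8, 13, (11, 6, 4, 4, 4, 16, 11, 1, 4), (2, 5, 0, 1, 3, 6, 0, 13, 4)),
  (8, 14, (16, 16, 2, 7, 12, 12, 4, 11, 1), (1, 15, 2, 0, 5, 5, 0, 6, 13)),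
  (8, 15, (0, 14, 13, 4, 3, 9, 14, 3, 6), (1, 11, 1, 1, 1, 1, 0, 1, 5)),
  (8, 16, (2, 3, 13, 14, 4, 16, 14, 15, 15), (1, 3, 8, 0, 15, 9, 0, 2, 16)),
  (9, 0, (2, 4, 14, 15, 9, 16, 13, 3, 2), (0, 7, 13, 2, 10, 6, 0, 2, 0)),
  (9, 1, (14, 14, 0, 2, 8, 14, 4, 10, 13), (1, 2, 5, 0, 11, 4, 2, 10, 3)),
  (9, 2, (1, 7, 10, 1, 12, 13, 12, 11, 5), (0, 0, 9, 0, 15, 7, 1, 9, 13)),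
  (9, 3, (14, 13, 8, 11, 14, 0, 9, 11, 12), (0, 2, 8, 0, 8, 11, 2, 12, 15)),
  (9, 4, (13, 13, 16, 9, 9, 7, 5, 14, 10), (3, 6, 0, 1, 13, 13, 1, 9, 15)),
  (9, 5, (6, 9, 11, 13, 11, 1, 2, 4, 3), (1, 16, 11, 2, 10, 11, 0, 12, 16)),
  (9, 6, (16, 6, 14, 14, 1, 6, 6, 6, 16), (0, 9, 4, 1, 8, 5, 0, 7, 3)),
  (9, 7, (15, 15, 9, 9, 2, 11, 0, 4, 1), (0, 9, 1, 3, 12, 9, 0, 4, 13)),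
  (9, 8, (5, 8, 13, 3, 0, 14, 5, 8, 8), (0, 15, 14, 2, 12, 12, 2, 6, 16)),
  (9, 9, (10, 10, 11, 7, 10, 13, 4, 16, 16), (2, 0, 8, 0, 4, 11, 1, 8, 7)),
  (9, 10, (1, 3, 10, 1, 4, 13, 11, 8, 2), (0, 12, 5, 4, 3, 6, 0, 13, 10)),
  (9, 11, (4, 10, 1, 4, 10, 12, 4, 15, 2), (0, 14, 9, 2, 15, 7, 0, 7, 16)),
  (9, 12, (2, 13, 9, 15, 14, 5, 16, 15, 1), (1, 3, 9, 0, 6, 10, 0, 8, 5)),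
  (9, 13, (7, 11, 14, 15, 11, 16, 11, 12, 2), (1, 3, 14, 0, 9, 1, 2, 7, 15)),
  (9, 14, (12, 11, 1, 0, 0, 10, 13, 1, 13), (0, 2, 9, 1, 1, 11, 1, 0, 6)),
  (9, 15, (12, 0, 0, 12, 1, 12, 9, 15, 3), (1, 11, 14, 1, 11, 16, 1, 2, 10)),
  (9, 16, (3, 14, 4, 1, 7, 4, 16, 13, 2), (0, 2, 4, 1, 3, 9, 0, 1, 10)),
  (10, 0, (13, 1, 8, 9, 15, 9, 14, 11, 7), (1, 15, 5, 1, 6, 9, 0, 12, 4)),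
  (10, 1, (14, 0, 0, 16, 12, 0, 8, 6, 8), (1, 12, 14, 0, 10, 1, 3, 5, 5)),
  (10, 2, (9, 5, 5, 9, 0, 14, 5, 13, 4), (1, 11, 10, 0, 16, 3, 0, 0, 16)),
  (10, 3, (16, 10, 4, 6, 12, 2, 8, 4, 8), (1, 1, 9, 2, 13, 12, 0, 6, 3)),
  (10, 4, (15, 16, 7, 14, 12, 7, 10, 12, 11), (2, 13, 10, 1, 5, 0, 0, 9, 7)),
  (10, 5, (7, 11, 12, 4, 13, 9, 3, 4, 10), (1, 15, 1, 1, 8, 15, 0, 9, 11)),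
  (10, 6, (2, 0, 13, 9, 13, 7, 13, 4, 2), (0, 14, 12, 3, 7, 2, 0, 14, 14)),
  (10, 7, (11, 4, 2, 4, 11, 1, 14, 8, 13), (1, 9, 9, 0, 0, 12, 1, 16, 2)),
  (10, 8, (11, 8, 13, 4, 9, 10, 11, 1, 10), (0, 14, 14, 1, 10, 3, 2, 6, 15)),
  (10, 9, (9, 2, 6, 6, 13, 3, 6, 0, 14), (0, 0, 15, 1, 2, 7, 0, 8, 3)),
  (10, 10, (12, 13, 2, 0, 4, 13, 3, 2, 0), (0, 7, 3, 1, 15, 15, 1, 9, 5)),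
  (10, 11, (4, 11, 8, 1, 5, 12, 3, 1, 6), (2, 5, 3, 0, 16, 5, 0, 5, 0)),
  (10, 12, (16, 15, 3, 5, 6, 0, 2, 11, 2), (1, 11, 5, 1, 14, 8, 2, 4, 15)),
  (10, 13, (2, 5, 2, 9, 13, 15, 11, 15, 9), (4, 2, 0, 2, 3, 10, 0, 5, 6)),
  (10, 14, (3, 11, 11, 0, 10, 11, 16, 11, 4), (1, 8, 12, 0, 16, 8, 2, 7, 10)),
  (10, 15, (15, 10, 1, 6, 15, 6, 3, 16, 13), (1, 7, 14, 2, 9, 7, 0, 10, 1)),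
  (10, 16, (10, 7, 1, 13, 10, 4, 3, 1, 16), (2, 4, 0, 0, 15, 7, 1, 16, 6)),
  (11, 0, (11, 16, 14, 8, 9, 1, 6, 5, 4), (0, 12, 11, 1, 16, 5, 0, 14, 0)),
  (11, 1, (3, 9, 8, 9, 5, 15, 10, 3, 12), (1, 14, 8, 0, 10, 3, 0, 16, 10)),
  (11, 2, (10, 13, 10, 1, 11, 0, 1, 11, 10), (2, 8, 5, 0, 15, 8, 0, 8, 6)),
  (11, 3, (2, 1, 14, 11, 0, 12, 7, 12, 1), (3, 5, 13, 0, 11, 11, 0, 15, 14)),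
  (11, 4, (0, 0, 14, 0, 6, 9, 1, 16, 1), (1, 14, 3, 0, 9, 7, 0, 4, 7)),
  (11, 5, (15, 2, 8, 15, 10, 13, 4, 1, 3), (0, 11, 1, 1, 12, 6, 1, 3, 2)),
  (11, 6, (6, 0, 10, 9, 14, 5, 10, 7, 5), (0, 0, 1, 1, 16, 12, 2, 16, 14)),
  (11, 7, (14, 9, 11, 10, 7, 15, 14, 6, 14), (2, 16, 12, 0, 3, 1, 1, 11, 10)),
  (11, 8, (16, 14, 11, 10, 8, 1, 11, 11, 14), (0, 15, 16, 0, 8, 8, 2, 8, 14)),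
  (11, 9, (5, 2, 14, 1, 6, 3, 7, 2, 2), (0, 11, 7, 1, 8, 16, 0, 1, 16)),
  (11, 10, (4, 15, 10, 15, 15, 13, 1, 15, 10), (2, 9, 5, 0, 2, 13, 1, 12, 9)),
  (11, 11, (13, 16, 5, 12, 2, 15, 10, 11, 9), (3, 5, 15, 1, 2, 10, 3, 4, 1)),
  (11, 12, (7, 15, 9, 5, 11, 13, 13, 14, 13), (0, 4, 13, 2, 4, 10, 1, 11, 15)),
  (11, 13, (11, 3, 12, 13, 6, 11, 3, 6, 1), (3, 16, 4, 1, 2, 7, 0, 13, 5)),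
  (11, 14, (8, 15, 11, 14, 14, 0, 11, 0, 3), (1, 16, 0, 0, 11, 1, 0, 9, 4)),
  (11, 15, (0, 7, 14, 7, 3, 2, 6, 4, 16), (0, 3, 15, 2, 12, 7, 0, 6, 10)),
  (11, 16, (6, 12, 10, 14, 3, 13, 10, 0, 11), (2, 1, 14, 0, 8, 4, 0, 12, 5)),
  (12, 0, (10, 16, 4, 11, 13, 5, 5, 5, 2), (1, 3, 16, 0, 9, 0, 0, 12, 2)),
  (12, 1, (14, 4, 9, 15, 7, 14, 15, 8, 4), (2, 13, 14, 0, 4, 15, 2, 7, 15)),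
  (12, 2, (5, 3, 3, 9, 16, 1, 9, 8, 13), (1, 3, 16, 2, 14, 9, 1, 2, 2)),
  (12, 3, (8, 9, 8, 13, 9, 1, 8, 12, 14), (0, 8, 14, 1, 4, 8, 1, 2, 15)),
  (12, 4, (5, 5, 9, 14, 14, 5, 10, 9, 3), (0, 0, 2, 0, 4, 9, 2, 13, 12)),
  (12, 5, (6, 13, 4, 9, 13, 4, 0, 9, 1), (1, 16, 1, 0, 12, 10, 1, 6, 14)),
  (12, 6, (5, 15, 0, 1, 3, 8, 7, 1, 16), (0, 14, 2, 4, 13, 1, 0, 8, 16)),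
  (12, 7, (13, 13, 6, 3, 9, 7, 13, 13, 1), (1, 13, 14, 0, 4, 11, 0, 15, 16)),
  (12, 8, (8, 4, 1, 6, 10, 1, 11, 5, 12), (0, 11, 8, 0, 11, 5, 1, 15, 2)),
  (12, 9, (4, 9, 12, 1, 7, 15, 11, 0, 9), (1, 7, 6, 0, 6, 1, 1, 0, 5)),
  (12, 10, (15, 4, 6, 13, 13, 11, 2, 16, 12), (0, 0, 2, 1, 13, 0, 1, 5, 1)),
  (12, 11, (2, 2, 12, 2, 16, 4, 5, 3, 16), (3, 1, 4, 0, 0, 16, 0, 6, 3)),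
  (12, 12, (7, 11, 1, 0, 1, 12, 0, 7, 4), (0, 14, 5, 2, 1, 3, 2, 10, 8)),
  (12, 13, (4, 3, 3, 9, 1, 4, 2, 4, 13), (2, 16, 7, 0, 13, 8, 0, 15, 6)),
  (12, 14, (2, 7, 4, 7, 13, 5, 15, 3, 6), (1, 15, 1, 0, 13, 2, 1, 14, 14)),
  (12, 15, (11, 1, 3, 4, 9, 4, 3, 15, 4), (0, 3, 12, 7, 4, 4, 0, 11, 14)),
  (12, 16, (1, 7, 14, 6, 15, 7, 0, 6, 7), (1, 7, 3, 0, 10, 0, 0, 3, 12)),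
  (13, 0, (16, 0, 15, 15, 8, 13, 11, 13, 7), (0, 3, 16, 0, 12, 16, 2, 12, 3)),
  (13, 1, (13, 3, 6, 5, 10, 2, 0, 16, 3), (0, 8, 13, 1, 8, 15, 2, 13, 8)),
  (13, 2, (5, 16, 3, 5, 4, 16, 1, 10, 2), (1, 6, 9, 1, 12, 14, 0, 1, 1)),
  (13, 3, (3, 6, 2, 16, 0, 1, 14, 0, 6), (2, 10, 6, 2, 5, 6, 0, 11, 5)),
  (13, 4, (5, 0, 14, 6, 8, 0, 15, 15, 5), (0, 14, 9, 1, 2, 7, 0, 12, 4)),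
  (13, 5, (14, 9, 6, 3, 5, 4, 16, 10, 9), (2, 14, 4, 0, 1, 15, 0, 5, 16)),
  (13, 6, (9, 0, 6, 5, 6, 6, 5, 9, 2), (2, 14, 3, 0, 1, 0, 0, 1, 9)),
  (13, 7, (5, 0, 14, 16, 4, 11, 3, 2, 6), (1, 14, 15, 1, 15, 0, 0, 7, 15)),
  (13, 8, (16, 1, 1, 7, 9, 6, 16, 11, 8), (1, 12, 1, 0, 14, 14, 1, 13, 13)),
  (13, 9, (2, 13, 7, 0, 3, 14, 12, 15, 6), (0, 10, 13, 1, 10, 2, 1, 12, 13)),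
  (13, 10, (4, 3, 3, 3, 2, 8, 11, 9, 7), (0, 14, 0, 0, 16, 14, 2, 1, 10)),
  (13, 11, (7, 13, 9, 3, 0, 9, 15, 5, 2), (2, 11, 5, 0, 1, 5, 0, 8, 15)),
  (13, 12, (1, 9, 8, 11, 2, 0, 15, 10, 15), (0, 16, 2, 1, 6, 7, 1, 4, 12)),
  (13, 13, (12, 9, 3, 7, 3, 12, 2, 14, 9), (3, 0, 7, 0, 5, 15, 0, 16, 5)),
  (13, 14, (3, 4, 4, 12, 15, 0, 10, 15, 0), (0, 4, 16, 0, 7, 9, 2, 4, 7)),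
  (13, 15, (14, 12, 1, 15, 2, 16, 13, 9, 7), (0, 1, 12, 1, 12, 10, 1, 0, 1)),
  (13, 16, (13, 15, 5, 2, 15, 10, 7, 12, 14), (2, 7, 9, 1, 6, 3, 0, 14, 2)),
  (14, 0, (8, 15, 14, 5, 7, 15, 8, 9, 2), (0, 3, 11, 2, 10, 0, 0, 13, 5)),
  (14, 1, (15, 7, 16, 8, 5, 13, 1, 12, 6), (0, 9, 10, 0, 14, 9, 2, 9, 0)),
  (14, 2, (9, 12, 0, 15, 13, 14, 16, 15, 14), (0, 15, 15, 0, 16, 4, 5, 16, 6)),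
  (14, 3, (1, 2, 2, 12, 8, 5, 6, 10, 0), (0, 4, 11, 2, 15, 1, 3, 4, 10)),
  (14, 4, (5, 3, 11, 14, 5, 10, 12, 6, 10), (1, 0, 3, 1, 8, 6, 0, 0, 15)),
  (14, 5, (16, 6, 13, 4, 1, 7, 6, 8, 2), (0, 1, 2, 0, 2, 5, 1, 3, 6)),
  (14, 6, (13, 15, 7, 15, 7, 5, 15, 2, 12), (0, 7, 5, 1, 7, 12, 3, 9, 3)),
  (14, 7, (12, 7, 7, 3, 16, 2, 4, 0, 2), (2, 1, 5, 2, 11, 16, 0, 10, 0)),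
  (14, 8, (7, 3, 8, 10, 15, 7, 16, 3, 14), (0, 12, 10, 0, 6, 10, 2, 11, 11)),
  (14, 9, (13, 6, 6, 9, 10, 2, 15, 10, 2), (4, 12, 14, 0, 10, 9, 0, 14, 2)),
  (14, 10, (8, 8, 9, 6, 5, 16, 6, 2, 16), (0, 6, 15, 2, 12, 1, 2, 1, 6)),
  (14, 11, (7, 11, 6, 2, 0, 14, 5, 10, 9), (2, 11, 6, 1, 12, 8, 1, 2, 3)),
  (14, 12, (0, 0, 14, 5, 3, 1, 14, 14, 11), (2, 15, 7, 1, 8, 3, 2, 9, 14)),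
  (14, 13, (13, 12, 13, 11, 15, 2, 11, 16, 15), (0, 7, 7, 1, 0, 12, 1, 2, 9)),
  (14, 14, (15, 0, 12, 4, 1, 4, 8, 11, 13), (2, 5, 11, 1, 1, 7, 0, 2, 9)),
  (14, 15, (3, 15, 7, 13, 3, 12, 12, 8, 16), (5, 3, 6, 0, 3, 8, 0, 4, 13)),
  (14, 16, (15, 2, 7, 5, 11, 7, 10, 16, 0), (0, 5, 16, 4, 2, 11, 1, 2, 16)),
  (15, 0, (16, 4, 16, 12, 15, 8, 11, 10, 0), (2, 2, 8, 0, 10, 13, 2, 13, 13)),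
  (15, 1, (12, 10, 9, 14, 9, 5, 0, 6, 15), (1, 5, 13, 1, 2, 2, 1, 8, 1)),
  (15, 2, (14, 9, 12, 15, 8, 14, 0, 9, 7), (2, 16, 8, 0, 6, 6, 1, 14, 3)),
  (15, 3, (14, 6, 15, 6, 2, 3, 15, 5, 1), (0, 4, 2, 2, 6, 10, 0, 5, 13)),
  (15, 4, (14, 12, 11, 8, 13, 15, 14, 13, 15), (1, 5, 15, 1, 0, 4, 0, 7, 5)),
  (15, 5, (3, 0, 3, 15, 2, 0, 11, 16, 13), (0, 1, 5, 0, 5, 0, 2, 1, 10)),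
  (15, 6, (8, 16, 7, 8, 5, 8, 5, 3, 5), (0, 8, 13, 4, 6, 16, 2, 1, 1)),
  (15, 7, (10, 4, 8, 14, 5, 6, 11, 6, 14), (0, 1, 1, 2, 6, 0, 1, 7, 12)),
  (15, 8, (8, 12, 14, 5, 5, 1, 11, 0, 8), (0, 5, 12, 2, 11, 1, 0, 11, 11)),
  (15, 9, (14, 13, 8, 7, 3, 1, 11, 15, 1), (0, 6, 5, 2, 4, 12, 0, 5, 14)),
  (15, 10, (9, 15, 12, 9, 13, 10, 3, 13, 11), (0, 4, 0, 0, 15, 10, 3, 5, 13)),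
  (15, 11, (4, 10, 11, 15, 6, 12, 4, 6, 12), (1, 7, 4, 1, 1, 0, 1, 1, 14)),
  (15, 12, (11, 15, 9, 1, 7, 8, 4, 15, 16), (2, 14, 6, 0, 9, 14, 0, 0, 1)),
  (15, 13, (6, 8, 10, 5, 2, 4, 3, 11, 6), (1, 13, 11, 0, 13, 8, 0, 1, 2)),
  (15, 14, (15, 1, 10, 8, 10, 11, 4, 13, 0), (0, 12, 1, 0, 11, 0, 3, 5, 2)),
  (15, 15, (15, 9, 4, 7, 5, 4, 9, 0, 15), (0, 1, 4, 0, 6, 8, 1, 6, 6)),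
  (15, 16, (0, 15, 11, 13, 14, 6, 16, 11, 9), (0, 4, 7, 0, 8, 3, 5, 5, 3)),
  (16, 0, (7, 9, 5, 1, 9, 2, 10, 9, 4), (0, 14, 5, 0, 1, 1, 2, 2, 13)),
  (16, 1, (7, 12, 15, 0, 6, 12, 16, 0, 9), (0, 1, 9, 2, 6, 14, 3, 7, 11)),
  (16, 2, (4, 7, 7, 4, 13, 7, 2, 2, 0), (0, 2, 7, 1, 2, 4, 2, 10, 3)),
  (16, 3, (0, 9, 1, 13, 0, 1, 14, 1, 16), (1, 11, 15, 1, 1, 10, 0, 9, 1)),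
  (16, 4, (13, 3, 2, 15, 5, 7, 16, 0, 4), (2, 8, 15, 1, 8, 8, 1, 9, 4)),
  (16, 5, (8, 10, 1, 9, 15, 16, 8, 10, 5), (0, 1, 12, 0, 10, 7, 3, 8, 12)),
  (16, 6, (14, 16, 13, 16, 3, 5, 10, 13, 1), (0, 14, 14, 3, 7, 8, 1, 9, 0)),
  (16, 7, (16, 1, 7, 4, 3, 3, 16, 13, 9), (0, 10, 3, 1, 9, 6, 1, 10, 13)),
  (16, 8, (6, 0, 13, 13, 14, 8, 10, 0, 15), (0, 2, 12, 0, 13, 6, 2, 2, 3)),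
  (16, 9, (1, 13, 14, 9, 7, 10, 13, 14, 2), (0, 0, 1, 4, 6, 8, 0, 13, 14)),
  (16, 10, (9, 16, 15, 13, 9, 0, 14, 8, 16), (0, 2, 4, 1, 12, 4, 1, 4, 13)),
  (16, 11, (2, 5, 1, 9, 12, 3, 12, 3, 11), (0, 8, 2, 0, 3, 4, 2, 4, 11)),
  (16, 12, (10, 10, 10, 6, 5, 5, 4, 15, 3), (1, 0, 11, 0, 10, 9, 0, 9, 15)),
  (16, 13, (5, 2, 11, 4, 12, 14, 2, 14, 12), (0, 0, 4, 3, 7, 13, 0, 10, 15)),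
  (16, 14, (14, 5, 7, 7, 16, 16, 4, 7, 14), (2, 8, 2, 0, 6, 11, 0, 7, 3)),
  (16, 15, (15, 10, 1, 16, 13, 16, 6, 16, 0), (1, 4, 5, 1, 6, 2, 1, 14, 16)),
  (16, 16, (0, 2, 4, 10, 3, 14, 15, 8, 5), (0, 12, 3, 1, 11, 12, 0, 5, 4))]

def M17 : List (ℕ × ℕ × T9 × T9) := [
  (1, 1, (4, 15, 13, 1, 3, 7, 1, 10, 0), (1, 12, 4, 0, 9, 12, 2, 9, 7)),
  (2, 9, (14, 0, 8, 16, 15, 7, 15, 14, 12), (1, 12, 2, 1, 11, 5, 1, 5, 5)),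
  (3, 6, (3, 15, 13, 14, 0, 2, 3, 1, 13), (0, 2, 15, 1, 6, 6, 1, 8, 12)),
  (4, 13, (11, 5, 0, 15, 8, 8, 4, 15, 3), (0, 7, 16, 3, 16, 5, 1, 2, 11)),
  (5, 7, (3, 13, 4, 16, 5, 1, 16, 5, 15), (0, 6, 15, 1, 12, 9, 1, 3, 9)),
  (6, 3, (16, 15, 11, 4, 2, 1, 10, 13, 5), (1, 10, 0, 0, 10, 7, 3, 11, 14)),
  (7, 5, (1, 7, 2, 3, 15, 2, 8, 15, 14), (0, 14, 1, 3, 0, 16, 2, 16, 13)),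
  (8, 15, (11, 2, 11, 3, 1, 6, 7, 15, 6), (0, 6, 3, 0, 5, 16, 4, 3, 14)),
  (9, 2, (12, 14, 13, 8, 10, 13, 7, 6, 0), (1, 0, 15, 0, 9, 3, 0, 15, 7)),
  (10, 12, (9, 1, 0, 15, 3, 16, 3, 1, 1), (0, 8, 6, 2, 13, 14, 3, 9, 12)),
  (11, 14, (7, 11, 5, 4, 15, 15, 16, 3, 4), (1, 15, 16, 0, 14, 4, 1, 13, 7)),
  (12, 10, (9, 10, 10, 5, 11, 7, 10, 3, 1), (2, 14, 16, 1, 3, 5, 0, 0, 2)),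
  (13, 4, (4, 3, 3, 3, 5, 11, 9, 11, 8), (0, 8, 16, 1, 1, 5, 0, 5, 12)),
  (14, 11, (11, 10, 1, 11, 15, 6, 0, 5, 1), (0, 6, 4, 2, 12, 9, 2, 10, 9)),
  (15, 8, (7, 3, 1, 16, 4, 0, 4, 3, 16), (0, 8, 9, 0, 13, 3, 2, 7, 7)),
  (16, 16, (2, 9, 8, 11, 3, 0, 4, 0, 7), (2, 13, 1, 0, 15, 9, 1, 14, 9))]

def D17 : List (ℕ × T9) := [
  (1, (0, 1, 0, 0, 14, 1, 1, 0, 14)),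
  (2, (0, 8, 0, 0, 10, 8, 8, 0, 10)),
  (3, (0, 7, 0, 0, 13, 7, 7, 0, 13)),
  (4, (0, 13, 0, 0, 12, 13, 13, 0, 12)),
  (5, (0, 11, 0, 0, 1, 11, 11, 0, 1)),
  (6, (0, 5, 0, 0, 2, 5, 5, 0, 2)),
  (7, (0, 14, 0, 0, 9, 14, 14, 0, 9)),
  (8, (0, 2, 0, 0, 11, 2, 2, 0, 11)),
  (9, (0, 15, 0, 0, 6, 15, 15, 0, 6)),
  (10, (0, 3, 0, 0, 8, 3, 3, 0, 8)),
  (11, (0, 12, 0, 0, 15, 12, 12, 0, 15)),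
  (12, (0, 6, 0, 0, 16, 6, 6, 0, 16)),
  (13, (0, 4, 0, 0, 5, 4, 4, 0, 5)),
  (14, (0, 10, 0, 0, 4, 10, 10, 0, 4)),
  (15, (0, 9, 0, 0, 7, 9, 9, 0, 7)),
  (16, (0, 16, 0, 0, 3, 16, 16, 0, 3))]

def L17 : List (Bool × T9) := [
  (false, (0, 1, 0, 0, 14, 1, 1, 0, 14)),
  (false, (0, 14, 1, 1, 9, 11, 14, 1, 9)),
  (true, (8, 10, 4, 4, 12, 15, 10, 4, 12)),
  (true, (12, 9, 6, 6, 2, 8, 9, 6, 2)),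
  (false, (14, 9, 3, 3, 4, 0, 9, 3, 4)),
  (false, (12, 1, 3, 3, 9, 9, 1, 3, 9)),
  (true, (13, 4, 9, 9, 1, 11, 4, 9, 1)),
  (true, (1, 0, 0, 0, 1, 0, 0, 0, 1))]

theorem hC17 : allC 17 16 x17 C17 = true := by decide +kernel
theorem hM17 : allM 17 16 x17 M17 = true := by decide +kernel
theorem hD17 : allD 17 16 x17 D17 = true := by decide +kernel
theorem hL17 : chn 17 x17 x17 L17 = true := by decide +kernel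
theorem hw17 : ((16 : ℕ) : ZMod 17) = -1 := by decide +kernel
theorem hx17 : (mk9 17 x17) 1 0 = 1 := by decide +kernel
theorem hd17 : det9 17 16 x17 = 1 := by decide +kernel

/-- **`PSL_3(17)`** -/
theorem pp_17 {F : Type*} [Field F] [Finite F] (hF : Nat.card F = 17) :
    Cfsg.Agent.H494.TC.PP (ProjectiveSpecialLinearGroup (Fin 3) F) := by
  have : Fact (Nat.Prime 17) := ⟨by norm_num⟩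
  exact pp_of (q := 17) (w := 16) (r := 307) hw17 hC17 hM17 hD17 hL17 (by decide +kernel) (by norm_num) (by norm_num)
    hd17 hx17 hF

end Cfsg.Agent.H922.TC.L3
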